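import Cfsg.Agent.Lib.TransvMax.OFrame.Core

/-!
Every centre outside all members leads to a centre inside a member.
-/

set_option autoImplicit false

namespace Cfsg.Agent.TransvMax.OFrame

attribute [-simp] QuadraticMap.polarBilin_apply_apply

open scoped Matrix MatrixGroups
open Cfsg.Agent Cfsg.Agent.TransvMax

variable {ι : Type} [Fintype ι] [DecidableEq ι] {F : Type*} [Field F] [Finite F]
  {Q : QuadraticForm F (ι → F)} {t k : ℕ} {D : Fin t → Submodule F (ι → F)}

/-- Values of `A (1 - c)² + B c²` meet every square class. -/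
theorem exists_mix (S : OSetting Q) {A B ν : F} (hA : A ≠ 0) (hB : B ≠ 0) (hν : ν ≠ 0) :
    ∃ c s : F, s ≠ 0 ∧ A * ((1 - c) * (1 - c)) + B * (c * c) = ν * (s * s) := by
  obtain ⟨X, Y, h⟩ := S.exists_binary hA hB ν
  obtain ⟨Y, hY, h⟩ : ∃ Z, X + Z ≠ 0 ∧ A * (X * X) + B * (Z * Z) = ν := by
    by_cases hXY : X + Y = 0
    · refine ⟨-Y, fun h1 => ?_, by linear_combination h⟩
      have hX : (2 : F) * X = 0 := by linear_combination hXY + h1
      rw [mul_eq_zero] at hX
      have hX0 := hX.resolve_left S.two_ne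
      rw [hX0, zero_add] at hXY
      rw [hX0, hXY] at h
      exact hν (by linear_combination -h)
    · exact ⟨Y, hXY, h⟩
  refine ⟨Y / (X + Y), 1 / (X + Y), one_div_ne_zero hY, ?_⟩
  field_simp
  linear_combination h

namespace OF

variable (S : OF Q k D)

include S

/-- An element of the derived group scaling a singular vector of a member. -/
theorem exists_scale {a : Fin t} {u : ι → F} (hu : u ∈ D a) (hu0 : u ≠ 0) (hQu : Q u = 0) :
    ∃ h ∈ FormsLib.oGroup Q, glOf h ∈ Cfsg.Geo.omegaGL ⇑Q ∧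
      (∀ b, b ≠ a → ∀ y ∈ D b, h y = y) ∧ ∃ r : F, r ≠ 1 ∧ h u = r • u := by
  obtain ⟨v, hv, hQv, huv⟩ := S.exists_partner hu hu0 hQu
  rcases S.big with hk | hq
  · have huu : pB Q u u = 0 := by rw [S.S.pB_self, hQu, mul_zero]
    have hvv : pB Q v v = 0 := by rw [S.S.pB_self, hQv, mul_zero]
    have hvu : pB Q v u = 1 := by rw [S.S.pB_comm, huv]
    have hQp : Q (u + v) = 1 := by rw [S.S.quad_add, hQu, hQv, huv]; ring
    have hQr : Q (u - v) = -1 := by
      rw [sub_eq_add_neg, S.S.quad_add, hQu, QuadraticMap.map_neg, hQv, map_neg, huv]; ring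
    have hp : Q (u + v) ≠ 0 := by rw [hQp]; exact one_ne_zero
    have hr : Q (u - v) ≠ 0 := by rw [hQr]; exact neg_ne_zero.2 one_ne_zero
    have hrp : pB Q (u - v) (u + v) = 0 := by simp [map_add, map_sub, huu, hvv, huv, hvu]
    obtain ⟨e0, he0, hQe0, he0p, he0r⟩ :=
      S.exists_orth_two ((D a).add_mem hu hv) hp ((D a).sub_mem hu hv) hr hrp
    obtain ⟨f0, hf0, hQf0, hf0p, hf0r, hf0e⟩ := S.exists_orth_three hk ((D a).add_mem hu hv) hp
      ((D a).sub_mem hu hv) hr he0 hQe0 hrp he0p he0r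
    have hrep : ∀ c : F, ∃ e ∈ D a, Q e = c ∧ pB Q u e = 0 ∧ pB Q v e = 0 := by
      intro c
      obtain ⟨s, r, hsr⟩ := S.S.exists_binary hQe0 hQf0 c
      have hperp : ∀ z, pB Q z (u + v) = 0 → pB Q z (u - v) = 0 →
          pB Q u z = 0 ∧ pB Q v z = 0 := by
        intro z h1 h2
        simp only [map_add, map_sub] at h1 h2
        have h3 : (2 : F) * pB Q u z = 0 := by
          rw [S.S.pB_comm]; linear_combination h1 + h2
        have h4 : (2 : F) * pB Q v z = 0 := by
          rw [S.S.pB_comm]; linear_combination h1 - h2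
        simp only [mul_eq_zero, S.S.two_ne, false_or] at h3 h4
        exact ⟨h3, h4⟩
      obtain ⟨h1, h2⟩ := hperp e0 he0p he0r
      obtain ⟨h3, h4⟩ := hperp f0 hf0p hf0r
      refine ⟨s • e0 + r • f0, (D a).add_mem ((D a).smul_mem _ he0) ((D a).smul_mem _ hf0), ?_,
        by simp [h1, h3], by simp [h2, h4]⟩
      rw [S.S.quad_add, S.S.quad_smul, S.S.quad_smul, map_smul, map_smul, LinearMap.smul_apply,
        S.S.pB_comm e0 f0, hf0e, smul_zero, smul_zero, add_zero]
      linear_combination hsr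
    obtain ⟨e, he, hQe, hue, hve⟩ := hrep 1
    obtain ⟨f, hf, hQf, huf, hvf⟩ := hrep (-1)
    have he' : Q e ≠ 0 := by rw [hQe]; exact one_ne_zero
    have hf' : Q f ≠ 0 := by rw [hQf]; exact neg_ne_zero.2 one_ne_zero
    set R1 := FormsLib.refl Q e he' * FormsLib.refl Q (u + v) hp with hR1
    set R2 := FormsLib.refl Q f hf' * FormsLib.refl Q (u - v) hr with hR2
    refine ⟨R1 * R2, mul_mem (mul_mem (FormsLib.refl_mem Q _) (FormsLib.refl_mem Q _))
      (mul_mem (FormsLib.refl_mem Q _) (FormsLib.refl_mem Q _)), ?_, fun b hb y hy => ?_, -1, ?_, ?_⟩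
    · rw [map_mul]
      exact mul_mem (refl_pair_mem_omega S.S hp he' (hQp.trans hQe.symm))
        (refl_pair_mem_omega S.S hr hf' (hQr.trans hQf.symm))
    · simp only [hR1, hR2, LinearEquiv.mul_apply]
      rw [FormsLib.refl_fix Q hr (S.orth hb hy ((D a).sub_mem hu hv)),
        FormsLib.refl_fix Q hf' (S.orth hb hy hf),
        FormsLib.refl_fix Q hp (S.orth hb hy ((D a).add_mem hu hv)),
        FormsLib.refl_fix Q he' (S.orth hb hy he)]
    · intro h
      exact S.S.two_ne (by linear_combination -h)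
    · simp only [hR1, hR2, LinearEquiv.mul_apply]
      have e1 : FormsLib.refl Q (u - v) hr u = v := by
        rw [FormsLib.refl_apply, ← QuadraticMap.polarBilin_apply_apply, hQr, map_sub, huu, huv]
        match_scalars <;> simp
      have e2 : FormsLib.refl Q (u + v) hp v = -u := by
        rw [FormsLib.refl_apply, ← QuadraticMap.polarBilin_apply_apply, hQp, map_add, hvu, hvv]
        match_scalars <;> simp
      rw [e1, FormsLib.refl_fix Q hf' hvf, e2, map_neg, FormsLib.refl_fix Q he' hue, neg_one_smul]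
  · obtain ⟨s, hs, hs'⟩ := exists_sq_ne_one S.S hq
    obtain ⟨h, hΩ, ho, hhu, hfix⟩ := exists_torus_sq S.S hQu hQv huv hs
    exact ⟨h, ho, hΩ, fun b hb y hy => hfix y (S.orth hb hy hu) (S.orth hb hy hv), s * s, hs', hhu⟩

/-- In dimension at least four a vector has an orthogonal singular vector in the member. -/
theorem exists_sing_perp (hk : 4 ≤ k) {a : Fin t} {x : ι → F} (hx : x ∈ D a) (hQx : Q x ≠ 0) :
    ∃ d ∈ D a, d ≠ 0 ∧ Q d = 0 ∧ pB Q x d = 0 := by
  obtain ⟨p, hp, hQp, hpx⟩ := S.exists_orth_one hx hQx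
  obtain ⟨r, hr, hQr, hrx, hrp⟩ := S.exists_orth_two hx hQx hp hQp hpx
  obtain ⟨e, he, hQe, hex, hep, her⟩ := S.exists_orth_three hk hx hQx hp hQp hr hQr hpx hrx hrp
  obtain ⟨s, u, hsu⟩ := S.S.exists_binary hQp hQr (-Q e)
  refine ⟨s • p + u • r + e, (D a).add_mem
    ((D a).add_mem ((D a).smul_mem _ hp) ((D a).smul_mem _ hr)) he, fun h0 => ?_, ?_, ?_⟩
  · have h1 := congrArg (fun z => pB Q z e) h0
    simp [S.S.pB_comm p e, S.S.pB_comm r e, hep, her, S.S.pB_self, S.S.two_ne, hQe] at h1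
  · simp only [S.S.quad_add, S.S.quad_smul, map_add, LinearMap.add_apply, map_smul,
      LinearMap.smul_apply, smul_eq_mul, S.S.pB_comm p r, S.S.pB_comm p e, S.S.pB_comm r e, hrp, hep,
      her, mul_zero, add_zero]
    linear_combination hsu
  · simp [S.S.pB_comm x p, S.S.pB_comm x r, S.S.pB_comm x e, hpx, hrx, hex]

omit [Finite F] in
/-- In dimension three the norm of a vector orthogonal to a hyperbolic pair gives one square
class of vectors having an orthogonal singular vector. -/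
theorem exists_class (hk : k = 3) (a : Fin t) (hs : ∃ u ∈ D a, u ≠ 0 ∧ Q u = 0) :
    ∃ ν : F, ν ≠ 0 ∧ ∀ x ∈ D a, ∀ s : F, s ≠ 0 → Q x = ν * (s * s) →
      ∃ d ∈ D a, d ≠ 0 ∧ Q d = 0 ∧ pB Q x d = 0 := by
  obtain ⟨u, hu, hu0, hQu⟩ := hs
  obtain ⟨v, hv, hQv, huv⟩ := S.exists_partner hu hu0 hQu
  obtain ⟨w, hw, hQw, hwu, hwv⟩ := S.exists_core hu hv hQu hQv huv
  have huu : pB Q u u = 0 := by rw [S.S.pB_self, hQu, mul_zero]
  have hvv : pB Q v v = 0 := by rw [S.S.pB_self, hQv, mul_zero]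
  have hvu : pB Q v u = 1 := by rw [S.S.pB_comm, huv]
  have huw : pB Q u w = 0 := by rw [S.S.pB_comm, hwu]
  have hvw : pB Q v w = 0 := by rw [S.S.pB_comm, hwv]
  refine ⟨Q w, hQw, fun x hx s _ hxs => ?_⟩
  set al := pB Q x v with hal
  set be := pB Q x u with hbe
  set ga := pB Q x w / (2 * Q w) with hga
  have hxe : x = al • u + be • v + ga • w := by
    have hp1 : Q (u + v) ≠ 0 := by rw [S.S.quad_add, hQu, hQv, huv]; simp
    have hp2 : Q (u - v) ≠ 0 := by
      rw [sub_eq_add_neg, S.S.quad_add, hQu, QuadraticMap.map_neg, hQv, map_neg, huv]; simp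
    set z := x - (al • u + be • v + ga • w) with hz
    have hzu : pB Q z u = 0 := by simp [hz, huu, hvu, hwu, ← hbe]
    have hzv : pB Q z v = 0 := by simp [hz, huv, hvv, hwv, ← hal]
    have hzw : pB Q z w = 0 := by
      have h2 := mul_ne_zero S.S.two_ne hQw
      simp only [hz, map_sub, map_add, map_smul, LinearMap.sub_apply, LinearMap.add_apply,
        LinearMap.smul_apply, huw, hvw, S.S.pB_self, smul_eq_mul, hga]
      rw [div_mul_cancel₀ _ h2]
      ring
    refine sub_eq_zero.1 (S.eq_zero_of_three hk hw hQw ((D a).add_mem hu hv) hp1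
      ((D a).sub_mem hu hv) hp2 (by simp [huw, hvw]) (by simp [huw, hvw])
      (by simp [map_add, map_sub, huu, hvv, huv, hvu])
      ((D a).sub_mem hx ((D a).add_mem ((D a).add_mem ((D a).smul_mem _ hu) ((D a).smul_mem _ hv))
        ((D a).smul_mem _ hw))) hzw (by rw [map_add, hzu, hzv, add_zero])
      (by rw [map_sub, hzu, hzv, sub_zero]))
  have hkey : al * be + ga * ga * Q w = Q w * (s * s) := by
    rw [← hxs]
    conv_rhs => rw [hxe]
    simp only [S.S.quad_add, S.S.quad_smul, hQu, hQv, map_add, LinearMap.add_apply, map_smul,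
      LinearMap.smul_apply, huv, huw, hvw, smul_eq_mul]
    ring
  by_cases hal0 : al = 0
  · exact ⟨v, hv, fun e => zero_ne_one (by rw [← huv, e, map_zero]), hQv, by rw [← hal, hal0]⟩
  set C := (ga + s) / al with hC
  refine ⟨u + (-(Q w * (C * C))) • v + C • w, (D a).add_mem
    ((D a).add_mem hu ((D a).smul_mem _ hv)) ((D a).smul_mem _ hw), fun e => ?_, ?_, ?_⟩
  · have h1 := congrArg (fun z => pB Q z v) e
    simp [huv, hvv, hwv] at h1
  · simp only [S.S.quad_add, S.S.quad_smul, hQu, hQv, map_add, LinearMap.add_apply, map_smul,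
      LinearMap.smul_apply, huv, huw, hvw, smul_eq_mul]
    ring
  · rw [map_add, map_add, map_smul, map_smul, ← hal, ← hbe, smul_eq_mul, smul_eq_mul]
    have hxw : pB Q x w = ga * (2 * Q w) := by
      rw [hga, div_mul_cancel₀ _ (mul_ne_zero S.S.two_ne hQw)]
    rw [hxw, hC]
    field_simp
    linear_combination hkey

/-- A derived-group element with prescribed inner product between an anisotropic vector and its image. -/
theorem exists_move {m : Fin t} {b : ι → F} (hb : b ∈ D m) (hQb : Q b ≠ 0) (α : F) :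
    ∃ h ∈ FormsLib.oGroup Q, glOf h ∈ Cfsg.Geo.omegaGL ⇑Q ∧
      (∀ i, i ≠ m → ∀ y ∈ D i, h y = y) ∧ pB Q b (h b) = 2 * α * Q b := by
  by_cases hα : α = 1
  · refine ⟨1, one_mem _, by rw [map_one]; exact one_mem _, fun _ _ _ _ => rfl, ?_⟩
    show pB Q b b = _
    rw [hα, S.S.pB_self, mul_one]
  obtain ⟨p, hp, hQp, hpb⟩ := S.exists_orth_one hb hQb
  obtain ⟨r, hr, hQr, hrb, hrp⟩ := S.exists_orth_two hb hQb hp hQp hpb
  obtain ⟨s, u, hsu⟩ := S.S.exists_binary hQp hQr ((1 - α * α) * Q b)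
  set b' := α • b + (s • p + u • r) with hb'
  have hb'm : b' ∈ D m := (D m).add_mem ((D m).smul_mem _ hb)
    ((D m).add_mem ((D m).smul_mem _ hp) ((D m).smul_mem _ hr))
  have hQb' : Q b' = Q b := by
    simp only [hb', S.S.quad_add, S.S.quad_smul, map_add, LinearMap.add_apply, map_smul,
      LinearMap.smul_apply, smul_eq_mul, S.S.pB_comm b p, S.S.pB_comm b r, S.S.pB_comm p r, hpb, hrb,
      hrp]
    linear_combination hsu
  have hbb' : pB Q b b' = 2 * α * Q b := by
    simp [hb', S.S.pB_self, S.S.pB_comm b p, S.S.pB_comm b r, hpb, hrb]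
    ring
  have hd : Q (b - b') ≠ 0 := by
    rw [sub_eq_add_neg, S.S.quad_add, QuadraticMap.map_neg, hQb', map_neg, hbb']
    intro e
    have h1 : (2 * (1 - α)) * Q b = 0 := by linear_combination e
    exact mul_ne_zero (mul_ne_zero S.S.two_ne (sub_ne_zero.2 (Ne.symm hα))) hQb h1
  have hQb'0 : Q b' ≠ 0 := by rwa [hQb']
  obtain ⟨p', hp', hQp', hp'b⟩ := S.exists_orth_one hb'm hQb'0
  obtain ⟨r', hr', hQr', hr'b, hr'p⟩ := S.exists_orth_two hb'm hQb'0 hp' hQp' hp'b
  obtain ⟨s', u', hsu'⟩ := S.S.exists_binary hQp' hQr' (Q (b - b'))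
  set g := s' • p' + u' • r' with hg
  have hgm : g ∈ D m := (D m).add_mem ((D m).smul_mem _ hp') ((D m).smul_mem _ hr')
  have hQg : Q g = Q (b - b') := by
    simp only [hg, S.S.quad_add, S.S.quad_smul, map_smul, LinearMap.smul_apply, smul_eq_mul,
      S.S.pB_comm p' r', hr'p]
    linear_combination hsu'
  have hg0 : Q g ≠ 0 := by rwa [hQg]
  have hbg : pB Q b' g = 0 := by simp [hg, S.S.pB_comm b' p', S.S.pB_comm b' r', hp'b, hr'b]
  refine ⟨FormsLib.refl Q g hg0 * FormsLib.refl Q (b - b') hd,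
    mul_mem (FormsLib.refl_mem Q _) (FormsLib.refl_mem Q _),
    refl_pair_mem_omega S.S hd hg0 hQg.symm, fun i hi y hy => ?_, ?_⟩
  · rw [LinearEquiv.mul_apply, FormsLib.refl_fix Q hd (S.orth hi hy ((D m).sub_mem hb hb'm)),
      FormsLib.refl_fix Q hg0 (S.orth hi hy hgm)]
  · rw [LinearEquiv.mul_apply, FormsLib.refl_sub_apply Q hQb'.symm hd,
      FormsLib.refl_fix Q hg0 hbg, hbb']

omit [Finite F] in
theorem pr_conj_fix {h : (ι → F) ≃ₗ[F] (ι → F)} (ho : h ∈ FormsLib.oGroup Q) {a : Fin t}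
    (hfix : ∀ b, b ≠ a → ∀ y ∈ D b, h y = y) (v : ι → F) :
    S.pr a (h v) = h (S.pr a v) ∧ ∀ b, b ≠ a → S.pr b (h v) = S.pr b v := by
  obtain ⟨h1, h2⟩ := S.pr_apply_fix ho hfix v
  constructor
  · have := S.pr_of_mem h2
    rw [map_sub, h1] at this
    exact (sub_left_inj.1 this)
  · intro b hb
    have := S.pr_of_mem_ne hb.symm h2
    rw [map_sub, sub_eq_zero] at this
    exact this

end OF

namespace OF

variable {S : OF Q k D} {K : Subgroup (GL ι F)}
  (hH : Cfsg.Geo.decompositionStabilizer D ⊓ Cfsg.Geo.omegaGL ⇑Q ≤ K)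
include hH

/-- A centre with a singular component. -/
theorem done_sing {x y : ι → F} (h : S.Fam K x y) (hQy : Q y ≠ 0) {l : Fin t} (hxn : x ∉ D l)
    (hx0 : S.pr l x ≠ 0) (hxl : Q (S.pr l x) = 0) : S.Done K := by
  set a := S.pr l x with ha
  have ham : a ∈ D l := S.pr_mem l x
  have haa : pB Q a a = 0 := by rw [S.S.pB_self, hxl, mul_zero]
  have hxa : pB Q x a = 0 := by rw [← S.pB_pr ham, ← ha, haa]
  obtain ⟨v, hv, hQv, hav⟩ := S.exists_partner ham hx0 hxl
  obtain ⟨w, hw, hQw, hwa, -⟩ := S.exists_core ham hv hxl hQv hav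
  have finish : ∀ c : F, c ≠ 0 → S.Fam K x (c • a) → S.Done K := fun c hc hF =>
    done_of_centre ham hx0 hxl hxn (hF.of_smul hc)
  have key : ∀ z, S.Fam K x z → ∀ e ∈ D l, pB Q e a = 0 →
      S.Fam K x (pB Q z a • e - pB Q z e • a - (Q e * pB Q z a) • a) := by
    intro z hz e he hea
    have ho := siegel_mem_oGroup S.S hxl hea
    have hxe : pB Q x e = 0 := by rw [← S.pB_pr he, ← ha, S.S.pB_comm, hea]
    have hx0 : S.S.siegel a e hxl hea x = x := by
      rw [S.S.siegel_apply, siegelHom_apply, hxa, hxe]; simp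
    have h1 := (hz.conj ho (siegel_mem (S := S) hH ham he hxl hea)).sub (hx0.symm ▸ hz)
    rw [hx0, S.S.siegel_apply, siegelHom_apply] at h1
    convert h1 using 1
    abel
  by_cases hβ : pB Q y a = 0
  swap
  · have h1 := key y h w hw hwa
    have h2 := key y h (-w) ((D l).neg_mem hw) (by rw [map_neg, LinearMap.neg_apply, hwa, neg_zero])
    refine finish (-2 * Q w * pB Q y a)
      (mul_ne_zero (mul_ne_zero (neg_ne_zero.2 S.S.two_ne) hQw) hβ) ?_
    convert h1.add h2 using 1
    rw [map_neg, QuadraticMap.map_neg]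
    module
  by_cases hE : ∃ e ∈ D l, pB Q e a = 0 ∧ pB Q y e ≠ 0
  · obtain ⟨e, he, hea, hye⟩ := hE
    refine finish (-pB Q y e) (neg_ne_zero.2 hye) ?_
    convert key y h e he hea using 1
    rw [hβ]
    module
  push Not at hE
  have hva : pB Q v a = 1 := by rw [S.S.pB_comm, hav]
  have hy : S.pr l y = pB Q y v • a := by
    refine S.pr_eq ((D l).smul_mem _ ham) fun z hz => ?_
    have h1 := hE (z - pB Q z a • v) ((D l).sub_mem hz ((D l).smul_mem _ hv))
      (by rw [map_sub, map_smul, LinearMap.sub_apply, LinearMap.smul_apply, hva]; simp)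
    rw [map_sub, map_smul, sub_eq_zero, smul_eq_mul] at h1
    rw [h1, map_smul, LinearMap.smul_apply, smul_eq_mul, S.S.pB_comm a z]
    ring
  obtain ⟨g, hgo, hgΩ, hgfix, r, hr, hga⟩ := S.exists_scale ham hx0 hxl
  have hgx : g x = x + (r - 1) • a := by
    have h1 := (S.pr_apply_fix hgo hgfix x).1
    rw [← ha, hga] at h1
    linear_combination (norm := module) h1
  have hgy : g y = y + (pB Q y v * (r - 1)) • a := by
    have h1 := (S.pr_apply_fix hgo hgfix y).1
    rw [hy, map_smul, hga] at h1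
    linear_combination (norm := module) h1
  have h' := h.conj hgo (mem_K hH S hgo hgΩ hgfix)
  rw [hgx, hgy] at h'
  have hxx : pB Q x x = 0 := by rw [S.S.pB_self, h.sing, mul_zero]
  have hax : pB Q a x = 0 := by rw [S.S.pB_comm, hxa]
  have hay : pB Q a y = 0 := by rw [S.S.pB_comm, hβ]
  have h2 : S.Fam K (x + (r - 1) • a) x := fam_comm h h'
    (by simp [hxx, hax]) (by simp [h.perp, hβ]) (by simp [h.perp, hax])
    (by simp [S.S.pB_self, hay, S.S.two_ne, hQy])
  have h3 : S.Fam K ((r - 1) • a) x := fun c => (h2 c).congr (by rw [S.S.quad_smul, hxl, mul_zero])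
    (by simp [hxa]) fun z => by
      simp only [siegelHom_apply, map_add, map_smul, smul_eq_mul, S.S.quad_smul, h.sing]
      module
  exact ⟨l, _, (D l).smul_mem _ ham, smul_ne_zero (sub_ne_zero.2 hr) hx0, x, hxn, h3⟩

/-- A centre outside every member. -/
theorem done_of_spread {x y : ι → F} (h : S.Fam K x y) (hQy : Q y ≠ 0) (hxn : ∀ j, x ∉ D j) :
    S.Done K := by
  classical
  by_cases hS : ∃ l, S.pr l x ≠ 0 ∧ Q (S.pr l x) = 0
  · obtain ⟨l, h1, h2⟩ := hS
    exact done_sing hH h hQy (hxn l) h1 h2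
  push Not at hS
  by_cases hA : ∃ l, Q (S.pr l x) ≠ 0 ∧ ∃ d ∈ D l, d ≠ 0 ∧ Q d = 0 ∧ pB Q x d = 0
  · obtain ⟨l, hl, d, hd, hd0, hQd, hxd⟩ := hA
    exact done_aniso hH h hQy hl hd hd0 hQd hxd
  push Not at hA
  have hxne : ∀ j, ∃ m, m ≠ j ∧ Q (S.pr m x) ≠ 0 := fun j => by
    obtain ⟨m, hm, hm0⟩ := S.exists_pr_ne (hxn j)
    exact ⟨m, hm, hS m hm0⟩
  have hk : k = 3 := by
    by_contra hne
    obtain ⟨m, -, hm⟩ := hxne ⟨0, by have := S.hD.decomp.decomp.two_le; omega⟩
    obtain ⟨d, hd, hd0, hQd, hdp⟩ := S.exists_sing_perp (by have := S.three; omega) (S.pr_mem m x) hm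
    exact hA m hm d hd hd0 hQd (by rwa [← S.pB_pr hd])
  by_cases hZ : ∃ l, S.pr l x = 0 ∧ S.pr l y ≠ 0
  · obtain ⟨l, h1, h2⟩ := hZ
    obtain ⟨d, hd, hd0, hQd⟩ := S.exists_sing l
    exact done_of_centre hd hd0 hQd (hxn l) (fam_fill hH h h1 h2 hd)
  push Not at hZ
  have hperp : ∀ l, Q (S.pr l x) ≠ 0 → ∀ d ∈ D l, d ≠ 0 → pB Q d (S.pr l x) = 0 → Q d ≠ 0 :=
    fun l hl d hd hd0 hdx hQd => hA l hl d hd hd0 hQd
      (by rw [← S.pB_pr hd, S.S.pB_comm, hdx])
  have generic : ∀ y', S.Fam K x y' → Q y' ≠ 0 → ∀ m, Q (S.pr m x) ≠ 0 → S.pr m y' = 0 →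
      ∀ l A B, A ≠ 0 → B ≠ 0 →
      (∀ β : F, ∀ g ∈ FormsLib.oGroup Q, (∀ i, i ≠ m → ∀ z ∈ D i, g z = z) → pB Q x (g x) = β →
        Q (S.pr l (x + β • y' - (Q y' * β) • g x)) =
          A * ((1 - Q y' * β) * (1 - Q y' * β)) + B * ((Q y' * β) * (Q y' * β))) →
      S.Done K := by
    intro y' hy' hQy' m hm hym l A B hA0 hB0 hval
    obtain ⟨ν, hν, hcls⟩ := S.exists_class hk l (S.exists_sing l)
    obtain ⟨c, s, hs, hc⟩ := exists_mix S.S hA0 hB0 hν
    set β := c / Q y' with hβ
    have hc' : Q y' * β = c := by rw [hβ, mul_div_cancel₀ _ hQy']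
    set b := S.pr m x with hbdef
    obtain ⟨g, hgo, hgΩ, hgfix, hgb⟩ := S.exists_move (S.pr_mem m x) hm (1 + β / (2 * Q b))
    have hgy : g y' = y' := by
      have h1 := (S.pr_apply_fix hgo hgfix y').1
      rwa [hym, map_zero, sub_zero, sub_eq_zero] at h1
    have hxx : pB Q x x = 0 := by rw [S.S.pB_self, h.sing, mul_zero]
    have hgx : pB Q x (g x) = β := by
      have h1 := (S.pr_apply_fix hgo hgfix x).1
      rw [← hbdef] at h1
      rw [show g x = x + (g b - b) by linear_combination (norm := module) h1, map_add, map_sub,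
        hxx, ← S.pB_pr (S.map_mem hgo hgfix (show b ∈ D m from S.pr_mem m x)) x,
        ← S.pB_pr (show b ∈ D m from S.pr_mem m x) x, ← hbdef, hgb, S.S.pB_self]
      rw [show S.pr m x = b from rfl]
      have h2 := S.S.two_ne
      field_simp
      ring
    have h' := hy'.conj hgo (mem_K hH S hgo hgΩ hgfix)
    rw [hgy] at h'
    obtain ⟨hu', hw', hf⟩ := h' 1
    set f := S.S.siegel (g x) ((1 : F) • y') hu' hw' with hfdef
    have hof : f ∈ FormsLib.oGroup Q := siegel_mem_oGroup S.S hu' hw'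
    have hfx : f x = x + β • y' - (Q y' * β) • g x := by
      rw [hfdef, S.S.siegel_apply, siegelHom_apply, one_smul, hgx, S.S.pB_comm x y', hy'.perp,
        zero_smul, sub_zero]
    have hv : Q (S.pr l (f x)) = ν * (s * s) := by
      rw [hfx, hval β g hgo hgfix hgx, hc', hc]
    obtain ⟨d, hd, hd0, hQd, hdp⟩ := hcls _ (S.pr_mem l _) s hs hv
    refine done_aniso hH (hy'.conj hof hf) (by rwa [hof y']) (l := l)
      (by rw [hv]; exact mul_ne_zero hν (mul_ne_zero hs hs)) hd hd0 hQd ?_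
    rwa [← S.pB_pr hd]
  let c := fun l => pB Q (S.pr l y) (S.pr l x) / (2 * Q (S.pr l x))
  by_cases hV : ∃ l, Q (S.pr l x) ≠ 0 ∧ S.pr l y ≠ c l • S.pr l x
  · obtain ⟨l, hla, hv0⟩ := hV
    set a := S.pr l x with hadef
    set v := S.pr l y - c l • a with hvdef
    have hvne : v ≠ 0 := sub_ne_zero.2 hv0
    have ham : a ∈ D l := S.pr_mem l x
    have hvm : v ∈ D l := (D l).sub_mem (S.pr_mem l y) ((D l).smul_mem _ ham)
    have hva : pB Q v a = 0 := by
      simp only [hvdef, c, ← hadef, map_sub, map_smul, LinearMap.sub_apply, LinearMap.smul_apply,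
        S.S.pB_self, smul_eq_mul]
      rw [div_mul_cancel₀ _ (mul_ne_zero S.S.two_ne hla), sub_self]
    obtain ⟨p, hp, hQp, hpa⟩ := S.exists_orth_one ham hla
    obtain ⟨r, hr, hQr, hra, hrp⟩ := S.exists_orth_two ham hla hp hQp hpa
    have hpr : pB Q p r = 0 := by rw [S.S.pB_comm, hrp]
    have hsum : Q p + Q r ≠ 0 := by
      intro e
      refine hperp l hla (p + r) ((D l).add_mem hp hr) (fun e0 => ?_)
        (by simp [hpa, hra, hadef.symm]) (by rw [S.S.quad_add, hpr, e, add_zero])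
      have h1 := congrArg (fun z => pB Q z p) e0
      simp [S.S.pB_self, hrp, S.S.two_ne, hQp] at h1
    have hQpr : Q (p + r) = Q p + Q r := by rw [S.S.quad_add, hpr, add_zero]
    have hpr0 : Q (p + r) ≠ 0 := by rwa [hQpr]
    set p' := FormsLib.refl Q (p + r) hpr0 p with hp'
    set q := 2 * Q p / (Q p + Q r) with hq
    have hp'e : p' = (1 - q) • p + (-q) • r := by
      rw [hp', FormsLib.refl_apply, ← QuadraticMap.polarBilin_apply_apply, hQpr, map_add,
        S.S.pB_self, hpr, hq]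
      match_scalars <;> field_simp <;> ring
    have hQp' : Q p' = Q p := FormsLib.refl_mem Q hpr0 p
    have hp'0 : Q p' ≠ 0 := by rwa [hQp']
    have hp'm : p' ∈ D l := by
      rw [hp'e]; exact (D l).add_mem ((D l).smul_mem _ hp) ((D l).smul_mem _ hr)
    set g := FormsLib.refl Q p' hp'0 * FormsLib.refl Q p hQp with hg
    have hgo : g ∈ FormsLib.oGroup Q := mul_mem (FormsLib.refl_mem Q _) (FormsLib.refl_mem Q _)
    have hgfix : ∀ i, i ≠ l → ∀ z ∈ D i, g z = z := fun i hi z hz => by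
      rw [hg, LinearEquiv.mul_apply, FormsLib.refl_fix Q hQp (S.orth hi hz hp),
        FormsLib.refl_fix Q hp'0 (S.orth hi hz hp'm)]
    have hap' : pB Q a p' = 0 := by
      simp [hp'e, S.S.pB_comm a p, S.S.pB_comm a r, hpa, hra]
    have hga : g a = a := by
      rw [hg, LinearEquiv.mul_apply, FormsLib.refl_fix Q hQp ((S.S.pB_comm a p).trans hpa),
        FormsLib.refl_fix Q hp'0 hap']
    have hgv : g v ≠ v := by
      intro e
      have h1 : FormsLib.refl Q p hQp v = FormsLib.refl Q p' hp'0 v := by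
        have h2 := congrArg (FormsLib.refl Q p' hp'0) e
        rwa [hg, LinearEquiv.mul_apply, ← LinearEquiv.mul_apply, FormsLib.refl_mul_self] at h2
      simp only [FormsLib.refl_apply, ← QuadraticMap.polarBilin_apply_apply, sub_right_inj] at h1
      have hq0 : q ≠ 0 := div_ne_zero (mul_ne_zero S.S.two_ne hQp) hsum
      have hp'r : pB Q p' r = -q * (2 * Q r) := by
        simp [hp'e, hpr, S.S.pB_self]
      have h3 := congrArg (fun z => pB Q z r) h1
      simp only [map_smul, LinearMap.smul_apply, smul_eq_mul, hpr, hp'r, mul_zero] at h3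
      have hvp' : pB Q v p' = 0 := by
        have h5 := (mul_eq_zero.1 h3.symm).resolve_right
          (mul_ne_zero (neg_ne_zero.2 hq0) (mul_ne_zero S.S.two_ne hQr))
        exact (mul_eq_zero.1 h5).resolve_left (inv_ne_zero hp'0)
      have h4 := congrArg (fun z => pB Q z p) h1
      rw [hvp'] at h4
      simp [S.S.pB_self, S.S.two_ne, hQp] at h4
      have hvr : pB Q v r = 0 := by
        rw [hp'e, map_add, map_smul, map_smul, h4] at hvp'
        simpa [hq0] using hvp'
      exact hvne (S.eq_zero_of_three hk ham hla hp hQp hr hQr hpa hra hrp hvm hva h4 hvr)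
    have hgK : glOf g ∈ K := mem_K hH S hgo (refl_pair_mem_omega S.S hQp hp'0 hQp'.symm) hgfix
    have hgx : g x = x := by
      have h1 := (S.pr_apply_fix hgo hgfix x).1
      rwa [← hadef, hga, sub_self, sub_eq_zero] at h1
    have hzF : S.Fam K x (g y - y) := (hgx ▸ h.conj hgo hgK).sub h
    obtain ⟨hzeq, hzm⟩ := S.pr_apply_fix hgo hgfix y
    have hz : g y - y = g v - v := by
      rw [hzeq, hvdef, map_sub, map_smul, hga]
      abel
    have hza : pB Q (g y - y) a = 0 := by
      rw [hz, map_sub, LinearMap.sub_apply, hva, sub_zero]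
      conv_lhs => rw [← hga]
      rw [pB_of_mem S.S hgo, hva]
    set z := g y - y with hzdef
    have hQz : Q z ≠ 0 := hperp l hla z hzm (by rw [hz]; exact sub_ne_zero.2 hgv) hza
    obtain ⟨m, hml, hm⟩ := hxne l
    refine generic z hzF hQz m hm (S.pr_of_mem_ne hml.symm hzm) l (Q a) (1 / Q z) hla
      (one_div_ne_zero hQz) fun β g' hgo' hfix' _ => ?_
    rw [map_sub, map_add, map_smul, map_smul, (S.pr_conj_fix hgo' hfix' x).2 l hml.symm, ← hadef,
      S.pr_of_mem hzm, sub_eq_add_neg, ← neg_smul, S.S.quad_add, S.S.quad_add, S.S.quad_smul,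
      S.S.quad_smul]
    have haz : pB Q a z = 0 := by rw [S.S.pB_comm, hza]
    simp only [map_add, map_smul, LinearMap.add_apply, LinearMap.smul_apply, S.S.pB_self, haz, hza,
      smul_eq_mul]
    field_simp
    ring
  · push Not at hV
    obtain ⟨m, -, hm⟩ := hxne ⟨0, by have := S.hD.decomp.decomp.two_le; omega⟩
    set y' := y + (-(c m)) • x with hy'
    have hxx : pB Q x x = 0 := by rw [S.S.pB_self, h.sing, mul_zero]
    have hQy' : Q y' = Q y := by
      rw [hy', S.S.quad_add, S.S.quad_smul, h.sing, map_smul, h.perp]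
      simp
    have hy'F : S.Fam K x y' := h.add ((Fam.self h.sing).smul _)
    have hym : S.pr m y' = 0 := by
      rw [hy', map_add, map_smul, hV m hm]
      module
    set a := S.pr m x with hadef
    refine generic y' hy'F (by rwa [hQy']) m hm hym m (Q a) (-(1 / Q y')) hm
      (neg_ne_zero.2 (one_div_ne_zero (by rwa [hQy']))) fun β g hgo hfix hgx => ?_
    have h1 := (S.pr_apply_fix hgo hfix x).1
    rw [← hadef] at h1
    have hb : pB Q a (g a) = β + 2 * Q a := by
      rw [← hgx, show g x = x + (g a - a) by linear_combination (norm := module) h1, map_add,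
        map_sub, hxx, ← S.pB_pr (S.map_mem hgo hfix (show a ∈ D m from S.pr_mem m x)) x,
        ← S.pB_pr (show a ∈ D m from S.pr_mem m x) x, ← hadef, S.S.pB_self]
      ring
    rw [map_sub, map_add, map_smul, map_smul, (S.pr_conj_fix hgo hfix x).1, ← hadef, hym, smul_zero,
      add_zero, sub_eq_add_neg, ← neg_smul, S.S.quad_add, S.S.quad_smul, hgo a, map_smul, hb,
      smul_eq_mul]
    have : Q y' ≠ 0 := by rwa [hQy']
    field_simp
    ring

end OF

end Cfsg.Agent.TransvMax.OFrame
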