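import Cfsg.Agent.Lib.TransvMax.OFrame.Member

/-!
Families of Siegel transformations with a fixed centre inside an overgroup of the stabiliser of an
orthogonal decomposition, and the two basic ways of moving a centre into a member.
-/

set_option autoImplicit false

namespace Cfsg.Agent.TransvMax.OFrame

open scoped Matrix MatrixGroups
open Cfsg.Agent Cfsg.Agent.TransvMax

variable {ι : Type} [Fintype ι] [DecidableEq ι] {F : Type*} [Field F] [Finite F]
  {Q : QuadraticForm F (ι → F)} {t k : ℕ} {D : Fin t → Submodule F (ι → F)}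

namespace OF

/-- The Siegel transformation with centre `u` along `w` lies in `K`. -/
def In (S : OF Q k D) (K : Subgroup (GL ι F)) (u w : ι → F) : Prop :=
  ∃ (hu : Q u = 0) (hw : pB Q w u = 0), glOf (S.S.siegel u w hu hw) ∈ K

/-- All Siegel transformations with centre `u` along multiples of `w` lie in `K`. -/
def Fam (S : OF Q k D) (K : Subgroup (GL ι F)) (u w : ι → F) : Prop :=
  ∀ c : F, S.In K u (c • w)

/-- Some centre inside a member carries a direction leaving that member. -/
def Done (S : OF Q k D) (K : Subgroup (GL ι F)) : Prop :=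
  ∃ j, ∃ u ∈ D j, u ≠ 0 ∧ ∃ w, w ∉ D j ∧ S.Fam K u w

variable {S : OF Q k D} {K : Subgroup (GL ι F)}

omit [Finite F] in
theorem Fam.sing {x y : ι → F} (h : S.Fam K x y) : Q x = 0 := (h 1).1

omit [Finite F] in
theorem Fam.perp {x y : ι → F} (h : S.Fam K x y) : pB Q y x = 0 := by
  obtain ⟨_, h2, _⟩ := h 1
  rwa [one_smul] at h2

omit [Finite F] in
theorem In.congr {u w u' w' : ι → F} (h : S.In K u w) (hu' : Q u' = 0) (hw' : pB Q w' u' = 0)
    (e : ∀ z, siegelHom Q u' w' z = siegelHom Q u w z) : S.In K u' w' := by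
  obtain ⟨hu, hw, hK⟩ := h
  refine ⟨hu', hw', ?_⟩
  have : S.S.siegel u' w' hu' hw' = S.S.siegel u w hu hw := LinearEquiv.ext e
  rw [this]
  exact hK

omit [Finite F] in
theorem In.add {u a b : ι → F} (ha : S.In K u a) (hb : S.In K u b) : S.In K u (a + b) := by
  obtain ⟨hu, ha', haK⟩ := ha
  obtain ⟨_, hb', hbK⟩ := hb
  refine ⟨hu, by rw [map_add, LinearMap.add_apply, ha', hb', add_zero], ?_⟩
  rw [← siegel_mul S.S hu ha' hb', map_mul]
  exact K.mul_mem haK hbK

omit [Finite F] in
theorem In.zero {u : ι → F} (hu : Q u = 0) : S.In K u 0 := by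
  refine ⟨hu, by simp, ?_⟩
  rw [show S.S.siegel u 0 hu (by simp) = 1 from LinearEquiv.ext fun x => S.S.siegelHom_zero u x,
    map_one]
  exact K.one_mem

omit [Finite F] in
theorem Fam.smul {x y : ι → F} (h : S.Fam K x y) (a : F) : S.Fam K x (a • y) := fun c => by
  rw [smul_smul]; exact h _

omit [Finite F] in
theorem Fam.add {x a b : ι → F} (ha : S.Fam K x a) (hb : S.Fam K x b) : S.Fam K x (a + b) :=
  fun c => by rw [smul_add]; exact (ha c).add (hb c)

omit [Finite F] in
theorem Fam.sub {x a b : ι → F} (ha : S.Fam K x a) (hb : S.Fam K x b) : S.Fam K x (a - b) := by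
  rw [sub_eq_add_neg, ← neg_one_smul F b]
  exact ha.add (hb.smul _)

omit [Finite F] in
theorem Fam.of_smul {x y : ι → F} {a : F} (h : S.Fam K x (a • y)) (ha : a ≠ 0) : S.Fam K x y := by
  have := h.smul a⁻¹
  rwa [smul_smul, inv_mul_cancel₀ ha, one_smul] at this

omit [Finite F] in
theorem Fam.self {x : ι → F} (hx : Q x = 0) : S.Fam K x x := fun c => by
  refine (In.zero (S := S) (K := K) hx).congr hx ?_ fun z => ?_
  · rw [map_smul, LinearMap.smul_apply, S.S.pB_self, hx, mul_zero, smul_zero]
  · rw [S.S.siegelHom_zero, siegelHom_apply, map_smul, S.S.quad_smul, hx, smul_eq_mul]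
    module

omit [Finite F] in
theorem Fam.centre_smul {x y : ι → F} (h : S.Fam K x y) (a : F) : S.Fam K (a • x) y := fun c => by
  obtain ⟨hx, hy, -⟩ := h c
  refine (h (a * c)).congr (by rw [S.S.quad_smul, hx, mul_zero])
    (by rw [map_smul, hy, smul_zero]) fun z => ?_
  simp only [siegelHom_apply, map_smul, LinearMap.smul_apply, smul_eq_mul, S.S.quad_smul]
  module

omit [Finite F] in
theorem Fam.swap {x d : ι → F} (h : S.Fam K x d) (hd : Q d = 0) : S.Fam K d x := fun c => by
  have hp := h.perp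
  refine (h (-c)).congr hd (by rw [map_smul, LinearMap.smul_apply, S.S.pB_comm, hp, smul_zero])
    fun z => ?_
  simp only [siegelHom_apply, map_smul, smul_eq_mul, S.S.quad_smul, h.sing, hd]
  module

omit [Finite F] in
theorem Fam.sum {x : ι → F} (hx : Q x = 0) {α : Type*} (s : Finset α) (w : α → ι → F)
    (h : ∀ i ∈ s, S.Fam K x (w i)) : S.Fam K x (∑ i ∈ s, w i) := by
  classical
  induction s using Finset.induction_on with
  | empty => rw [Finset.sum_empty]; intro c; rw [smul_zero]; exact In.zero hx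
  | insert i s hi ih =>
    rw [Finset.sum_insert hi]
    exact (h i (Finset.mem_insert_self i s)).add
      (ih fun j hj => h j (Finset.mem_insert_of_mem hj))

omit [Finite F] in
theorem In.conj {h : (ι → F) ≃ₗ[F] (ι → F)} (ho : h ∈ FormsLib.oGroup Q) (hK : glOf h ∈ K)
    {u w : ι → F} (hi : S.In K u w) : S.In K (h u) (h w) := by
  obtain ⟨hu, hw, hmem⟩ := hi
  refine ⟨by rw [ho u, hu], by rw [pB_of_mem S.S ho, hw], ?_⟩
  have h1 := K.mul_mem (K.mul_mem hK hmem) (K.inv_mem hK)
  rwa [← map_inv, ← map_mul, ← map_mul, siegel_conj S.S ho] at h1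

omit [Finite F] in
theorem Fam.conj {h : (ι → F) ≃ₗ[F] (ι → F)} (ho : h ∈ FormsLib.oGroup Q) (hK : glOf h ∈ K)
    {u w : ι → F} (hi : S.Fam K u w) : S.Fam K (h u) (h w) := fun c => by
  rw [← map_smul]; exact (hi c).conj ho hK

omit [Finite F] in
theorem done_of_centre {l : Fin t} {x d : ι → F} (hd : d ∈ D l) (hd0 : d ≠ 0) (hQd : Q d = 0)
    (hx : x ∉ D l) (h : S.Fam K x d) : S.Done K :=
  ⟨l, d, hd, hd0, x, hx, h.swap hQd⟩

omit [Finite F] in
/-- The commutator of two families with orthogonal centres. -/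
theorem fam_comm {x y x' y' : ι → F} (h : S.Fam K x y) (h' : S.Fam K x' y')
    (hxx : pB Q x' x = 0) (hy : pB Q y x' = 0) (hy' : pB Q y' x = 0) (hne : pB Q y' y ≠ 0) :
    S.Fam K x' x := by
  intro c
  obtain ⟨hx, hyx, hT⟩ := h (-c / pB Q y' y)
  set T := S.S.siegel x ((-c / pB Q y' y) • y) hx hyx with hTdef
  have ho : T ∈ FormsLib.oGroup Q := siegel_mem_oGroup S.S hx hyx
  have hx' : T x' = x' := by
    rw [hTdef, S.S.siegel_apply, siegelHom_apply, hxx, map_smul, S.S.pB_comm x' y, hy, smul_zero]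
    simp
  have hTy : T y' = y' + c • x := by
    rw [hTdef, S.S.siegel_apply, siegelHom_apply, hy', map_smul, smul_eq_mul,
      div_mul_cancel₀ _ hne]
    simp
  have h1 := (h' 1).conj ho hT
  rw [one_smul, hx', hTy] at h1
  have h2 := h1.add (h' (-1))
  convert h2 using 1
  module

omit [Finite F] in
theorem siegel_fix_out (S : OF Q k D) {a : Fin t} {d e : ι → F} (hd : d ∈ D a) (he : e ∈ D a) (hQd : Q d = 0)
    (hed : pB Q e d = 0) (b : Fin t) (hb : b ≠ a) (y : ι → F) (hy : y ∈ D b) :
    S.S.siegel d e hQd hed y = y := by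
  rw [S.S.siegel_apply, siegelHom_apply, S.orth hb hy hd, S.orth hb hy he]
  simp

variable (hH : Cfsg.Geo.decompositionStabilizer D ⊓ Cfsg.Geo.omegaGL ⇑Q ≤ K)
include hH

omit [Finite F] in
/-- Elements of the derived group supported in one member lie in `K`. -/
theorem mem_K (S : OF Q k D) {h : (ι → F) ≃ₗ[F] (ι → F)} (ho : h ∈ FormsLib.oGroup Q)
    (hΩ : glOf h ∈ Cfsg.Geo.omegaGL ⇑Q) {a : Fin t} (hfix : ∀ b, b ≠ a → ∀ y ∈ D b, h y = y) : glOf h ∈ K := by
  refine hH ⟨⟨1, fun b => ?_⟩, hΩ⟩
  have e : Matrix.toLin' ((glOf h : GL ι F) : Matrix ι ι F) = (h : (ι → F) →ₗ[F] (ι → F)) :=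
    LinearMap.ext fun x => by rw [Matrix.toLin'_apply]; exact glOf_mulVec h x
  rw [e, Equiv.Perm.coe_one, id]
  refine Submodule.eq_of_le_of_finrank_eq ?_ (h.finrank_map_eq (D b))
  rintro _ ⟨y, hy, rfl⟩
  by_cases hb : b = a
  · subst hb; exact S.map_mem ho hfix hy
  · rw [LinearEquiv.coe_coe, hfix b hb y hy]; exact hy

theorem siegel_mem {a : Fin t} {d e : ι → F} (hd : d ∈ D a) (he : e ∈ D a) (hQd : Q d = 0)
    (hed : pB Q e d = 0) : glOf (S.S.siegel d e hQd hed) ∈ K :=
  mem_K hH S (siegel_mem_oGroup S.S hQd hed) (glOf_siegel_mem_omega S.S hQd hed)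
    (siegel_fix_out S hd he hQd hed)

theorem fam_member {a : Fin t} {u w : ι → F} (hu : u ∈ D a) (hw : w ∈ D a) (hQu : Q u = 0)
    (hwu : pB Q w u = 0) : S.Fam K u w := fun c =>
  ⟨hQu, by rw [map_smul, LinearMap.smul_apply, hwu, smul_zero],
    siegel_mem (S := S) hH hu ((D a).smul_mem c hw) hQu _⟩

/-- A centre free of one member spreads over all of it. -/
theorem fam_fill {x y : ι → F} {m : Fin t} (h : S.Fam K x y) (hxm : S.pr m x = 0)
    (hym : S.pr m y ≠ 0) {z : ι → F} (hz : z ∈ D m) : S.Fam K x z := by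
  have step : ∀ y, S.Fam K x y → ∀ d ∈ D m, Q d = 0 → pB Q y d ≠ 0 → ∀ e ∈ D m, Q e ≠ 0 →
      pB Q e d = 0 → S.Fam K x d ∧ S.Fam K x e := by
    intro y h d hd hQd hyd e he hQe hed
    have key : ∀ e ∈ D m, pB Q e d = 0 →
        S.Fam K x (pB Q y d • e - pB Q y e • d - (Q e * pB Q y d) • d) := by
      intro e he hed
      have ho := siegel_mem_oGroup S.S hQd hed
      have hx0 : S.S.siegel d e hQd hed x = x := by
        have := (S.pr_apply_fix ho (siegel_fix_out S hd he hQd hed) x).1
        rwa [hxm, map_zero, sub_zero, sub_eq_zero] at this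
      have h1 := (h.conj ho (siegel_mem (S := S) hH hd he hQd hed)).sub (hx0.symm ▸ h)
      rw [hx0, S.S.siegel_apply, siegelHom_apply] at h1
      convert h1 using 1
      abel
    have h1 := key e he hed
    have h2 := key (-e) ((D m).neg_mem he) (by rw [map_neg, LinearMap.neg_apply, hed, neg_zero])
    have h3 : S.Fam K x ((-2 * Q e * pB Q y d) • d) := by
      convert h1.add h2 using 1
      rw [map_neg, QuadraticMap.map_neg]
      module
    have hd' : S.Fam K x d := h3.of_smul
      (mul_ne_zero (mul_ne_zero (neg_ne_zero.2 S.S.two_ne) hQe) hyd)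
    refine ⟨hd', ?_⟩
    have h4 : S.Fam K x (pB Q y d • e) := by
      convert h1.add ((hd'.smul (pB Q y e)).add (hd'.smul (Q e * pB Q y d))) using 1
      module
    exact h4.of_smul hyd
  obtain ⟨d, hd, hQd, hd0, hyd⟩ : ∃ d ∈ D m, Q d = 0 ∧ d ≠ 0 ∧ pB Q y d ≠ 0 := by
    have hp := S.pr_mem m y
    by_cases hQp : Q (S.pr m y) = 0
    · obtain ⟨v, hv, hQv, hpv⟩ := S.exists_partner hp hym hQp
      rw [S.pB_pr hv] at hpv
      refine ⟨v, hv, hQv, fun e => ?_, by rw [hpv]; exact one_ne_zero⟩
      rw [e, map_zero] at hpv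
      exact zero_ne_one hpv
    · obtain ⟨u, hu, hu0, hQu⟩ := S.exists_sing m
      obtain ⟨v, hv, hQv, huv⟩ := S.exists_partner hu hu0 hQu
      by_cases h1 : pB Q y u = 0
      · by_cases h2 : pB Q y v = 0
        · have h1' : pB Q (S.pr m y) u = 0 := by rw [S.pB_pr hu, h1]
          have h2' : pB Q (S.pr m y) v = 0 := by rw [S.pB_pr hv, h2]
          set d := S.pr m y + (u + (-Q (S.pr m y)) • v) with hd
          have hdm : d ∈ D m := (D m).add_mem hp ((D m).add_mem hu ((D m).smul_mem _ hv))
          have hyd : pB Q y d = 2 * Q (S.pr m y) := by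
            rw [← S.pB_pr hdm, hd, map_add, map_add, map_smul, S.S.pB_self, h1', h2']
            simp
          refine ⟨d, hdm, ?_, fun e => ?_, by rw [hyd]; exact mul_ne_zero S.S.two_ne hQp⟩
          · rw [hd, S.S.quad_add, S.S.quad_add, S.S.quad_smul, hQu, hQv, map_add, map_smul,
              map_smul, huv, h1', h2']
            simp
          · rw [e, map_zero] at hyd
            exact mul_ne_zero S.S.two_ne hQp hyd.symm
        · exact ⟨v, hv, hQv, fun e => h2 (by rw [e, map_zero]), h2⟩
      · exact ⟨u, hu, hQu, hu0, h1⟩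
  obtain ⟨d', hd', hQd', hdd'⟩ := S.exists_partner hd hd0 hQd
  obtain ⟨w, hw, hQw, hwd, hwd'⟩ := S.exists_core hd hd' hQd hQd' hdd'
  have hdd : pB Q d d = 0 := by rw [S.S.pB_self, hQd, mul_zero]
  have hFd := (step y h d hd hQd hyd w hw hQw hwd).1
  have hFd' := (step d hFd d' hd' hQd' (by rw [hdd']; exact one_ne_zero) w hw hQw hwd').1
  have hall : ∀ e ∈ D m, pB Q e d = 0 → S.Fam K x e := by
    intro e he hed
    by_cases hQe : Q e = 0
    · have hFw := (step y h d hd hQd hyd w hw hQw hwd).2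
      have h2 : Q (e + w) ≠ 0 ∨ Q (e - w) ≠ 0 := by
        by_contra hc
        push Not at hc
        obtain ⟨ha, hb⟩ := hc
        rw [S.S.quad_add, hQe] at ha
        rw [sub_eq_add_neg, S.S.quad_add, hQe, QuadraticMap.map_neg, map_neg] at hb
        exact mul_ne_zero S.S.two_ne hQw (by linear_combination ha + hb)
      rcases h2 with h2 | h2
      · convert ((step y h d hd hQd hyd (e + w) ((D m).add_mem he hw) h2
          (by rw [map_add, LinearMap.add_apply, hed, hwd, add_zero])).2).sub hFw using 1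
        abel
      · convert ((step y h d hd hQd hyd (e - w) ((D m).sub_mem he hw) h2
          (by rw [map_sub, LinearMap.sub_apply, hed, hwd, sub_zero])).2).add hFw using 1
        abel
    · exact (step y h d hd hQd hyd e he hQe hed).2
  have h5 := (hall (z - pB Q z d • d') ((D m).sub_mem hz ((D m).smul_mem _ hd')) (by
    rw [map_sub, map_smul, LinearMap.sub_apply, LinearMap.smul_apply, S.S.pB_comm d' d, hdd']
    simp)).add (hFd'.smul (pB Q z d))
  rwa [sub_add_cancel] at h5

/-- A centre with an anisotropic component having an orthogonal singular vector in its member. -/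
theorem done_aniso {x y : ι → F} (h : S.Fam K x y) (hQy : Q y ≠ 0) {l : Fin t}
    (hxl : Q (S.pr l x) ≠ 0) {d : ι → F} (hd : d ∈ D l) (hd0 : d ≠ 0) (hQd : Q d = 0)
    (hxd : pB Q x d = 0) : S.Done K := by
  have hxn : x ∉ D l := fun e => hxl (by rw [S.pr_of_mem e, h.sing])
  have hxx : pB Q x x = 0 := by rw [S.S.pB_self, h.sing, mul_zero]
  have hdd : pB Q d d = 0 := by rw [S.S.pB_self, hQd, mul_zero]
  have hdx : pB Q d x = 0 := by rw [S.S.pB_comm, hxd]
  set a := S.pr l x with ha
  have had : pB Q a d = 0 := by rw [ha, S.pB_pr hd, hxd]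
  have hxa : pB Q x a = 2 * Q a := by rw [← S.pB_pr (S.pr_mem l x), ← ha, S.S.pB_self]
  set w0 := (-(2 * Q a)⁻¹) • a with hw0
  have hw0m : w0 ∈ D l := (D l).smul_mem _ (S.pr_mem l x)
  have hw0d : pB Q w0 d = 0 := by rw [hw0, map_smul, LinearMap.smul_apply, had, smul_zero]
  have hxw0 : pB Q x w0 = -1 := by
    rw [hw0, map_smul, hxa, smul_eq_mul, neg_mul, inv_mul_cancel₀ (mul_ne_zero S.S.two_ne hxl)]
  by_cases hβ : pB Q y d = 0
  · -- commutator of two conjugates
    set T := S.S.siegel d w0 hQd hw0d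
    have ho : T ∈ FormsLib.oGroup Q := siegel_mem_oGroup S.S hQd hw0d
    have hTx : T x = x + d := by
      rw [S.S.siegel_apply, siegelHom_apply, hxd, hxw0]
      simp
    have hTy : T y = y - pB Q y w0 • d := by
      rw [S.S.siegel_apply, siegelHom_apply, hβ]
      simp
    have h' := h.conj ho (siegel_mem (S := S) hH hd hw0m hQd hw0d)
    rw [hTx, hTy] at h'
    have h2 : S.Fam K (x + d) x := fam_comm h h' (by rw [map_add, LinearMap.add_apply, hxx, hdx, add_zero])
      (by rw [map_add, h.perp, hβ, add_zero])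
      (by rw [map_sub, map_smul, LinearMap.sub_apply, LinearMap.smul_apply, h.perp, hdx, smul_zero,
        sub_zero])
      (by
        rw [map_sub, map_smul, LinearMap.sub_apply, LinearMap.smul_apply, S.S.pB_self,
          S.S.pB_comm d y, hβ, smul_zero, sub_zero]
        exact mul_ne_zero S.S.two_ne hQy)
    refine ⟨l, d, hd, hd0, x, hxn, fun c => (h2 c).congr hQd
      (by rw [map_smul, LinearMap.smul_apply, hxd, smul_zero]) fun z => ?_⟩
    simp only [siegelHom_apply, map_add, map_smul, smul_eq_mul, S.S.quad_smul, h.sing]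
    module
  · -- a conjugate maps the centre into the member
    have trick : ∀ d y, S.Fam K x y → d ∈ D l → d ≠ 0 → Q d = 0 → pB Q x d = 0 → pB Q y d = -1 →
        ∀ w ∈ D l, pB Q w d = 0 → pB Q x w = -1 → Q w ≠ Q y → S.Done K := by
      intro d y h hd hd0 hQd hxd hyd w hw hwd hxw hne
      have hdx : pB Q d x = 0 := by rw [S.S.pB_comm, hxd]
      have hdy : pB Q d y = -1 := by rw [S.S.pB_comm, hyd]
      set T := S.S.siegel d w hQd hwd
      have ho : T ∈ FormsLib.oGroup Q := siegel_mem_oGroup S.S hQd hwd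
      have hTx : T x = x + d := by
        rw [S.S.siegel_apply, siegelHom_apply, hxd, hxw]
        simp
      have hTy : T y = y + ((-1 : F) • w - pB Q y w • d + Q w • d) := by
        rw [S.S.siegel_apply, siegelHom_apply, hyd]
        module
      have hm : (-1 : F) • w - pB Q y w • d + Q w • d ∈ D l :=
        (D l).add_mem ((D l).sub_mem ((D l).smul_mem _ hw) ((D l).smul_mem _ hd)) ((D l).smul_mem _ hd)
      have h' := h.conj ho (siegel_mem (S := S) hH hd hw hQd hwd)
      obtain ⟨hu', hw', hf⟩ := h' 1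
      set f := S.S.siegel (T x) ((1 : F) • T y) hu' hw' with hfdef
      have hof : f ∈ FormsLib.oGroup Q := siegel_mem_oGroup S.S hu' hw'
      have hxTy : pB Q x (T y) = 1 := by
        rw [hTy, map_add, map_add, map_sub, map_smul, map_smul, map_smul, hxw, hxd,
          S.S.pB_comm x y, h.perp]
        simp
      have hyTy : pB Q y (T y) = 2 * Q y - Q w := by
        rw [hTy, map_add, map_add, map_sub, map_smul, map_smul, map_smul, hyd, S.S.pB_self]
        simp only [smul_eq_mul]
        ring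
      have hfx : f x = (-1 : F) • d := by
        rw [hfdef, S.S.siegel_apply, siegelHom_apply, one_smul, hxTy, hTx, map_add, hxx, hxd]
        module
      have hfy : f y = (y - T y) + (Q w - Q y) • (x + d) := by
        rw [hfdef, S.S.siegel_apply, siegelHom_apply, one_smul, hyTy, ho y, hTx, map_add, h.perp, hyd]
        module
      have h3 := h.conj hof hf
      rw [hfx, hfy] at h3
      refine ⟨l, (-1 : F) • d, (D l).smul_mem _ hd, smul_ne_zero (neg_ne_zero.2 one_ne_zero) hd0,
        _, fun hmem => hxn ?_, h3⟩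
      have h4 : (Q w - Q y) • x ∈ D l := by
        have h5 := (D l).sub_mem ((D l).add_mem hmem hm) ((D l).smul_mem (Q w - Q y) hd)
        convert h5 using 1
        rw [hTy]
        module
      exact (Submodule.smul_mem_iff _ (sub_ne_zero.2 hne)).1 h4
    set y1 := (-(pB Q y d)⁻¹) • y with hy1
    have hy1d : pB Q y1 d = -1 := by
      rw [hy1, map_smul, LinearMap.smul_apply, smul_eq_mul, neg_mul, inv_mul_cancel₀ hβ]
    by_cases hne : Q w0 = Q y1
    swap
    · exact trick d y1 (h.smul _) hd hd0 hQd hxd hy1d w0 hw0m hw0d hxw0 hne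
    rcases S.big with hk | hq
    · obtain ⟨v, hv, -, hdv⟩ := S.exists_partner hd hd0 hQd
      have hvd : pB Q v d = 1 := by rw [S.S.pB_comm, hdv]
      set v0 := v - (pB Q v a / (2 * Q a)) • a with hv0
      have hv0a : pB Q v0 a = 0 := by
        rw [hv0, map_sub, map_smul, LinearMap.sub_apply, LinearMap.smul_apply, S.S.pB_self,
          smul_eq_mul, div_mul_cancel₀ _ (mul_ne_zero S.S.two_ne hxl), sub_self]
      have hv0d : pB Q v0 d = 1 := by
        rw [hv0, map_sub, map_smul, LinearMap.sub_apply, LinearMap.smul_apply, had, smul_zero,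
          sub_zero, hvd]
      set v1 := v0 + (-Q v0) • d with hv1
      have hda : pB Q d a = 0 := by rw [S.S.pB_comm, had]
      have hdv0 : pB Q d v0 = 1 := by rw [S.S.pB_comm, hv0d]
      have hv1a : pB Q v1 a = 0 := by
        rw [hv1, map_add, map_smul, LinearMap.add_apply, LinearMap.smul_apply, hv0a, hda]
        simp
      have hv1d : pB Q v1 d = 1 := by
        rw [hv1, map_add, map_smul, LinearMap.add_apply, LinearMap.smul_apply, hv0d, hdd]
        simp
      have hQv1 : Q v1 = 0 := by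
        rw [hv1, S.S.quad_add, S.S.quad_smul, hQd, map_smul, smul_eq_mul, hv0d]
        ring
      have hdv1 : pB Q d v1 = 1 := by rw [S.S.pB_comm, hv1d]
      have hv1v1 : pB Q v1 v1 = 0 := by rw [S.S.pB_self, hQv1, mul_zero]
      have hv1m : v1 ∈ D l := (D l).add_mem
        ((D l).sub_mem hv ((D l).smul_mem _ (S.pr_mem l x))) ((D l).smul_mem _ hd)
      obtain ⟨e, he, hQe, hea, hep, hem⟩ := S.exists_orth_three hk (x := a) (p := d + v1) (r := d - v1)
        (S.pr_mem l x) hxl ((D l).add_mem hd hv1m)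
        (by rw [S.S.quad_add, hQd, hQv1, hdv1]; simp) ((D l).sub_mem hd hv1m)
        (by rw [sub_eq_add_neg, S.S.quad_add, hQd, QuadraticMap.map_neg, hQv1, map_neg, hdv1]; simp)
        (by rw [map_add, LinearMap.add_apply, hda, hv1a, add_zero])
        (by rw [map_sub, LinearMap.sub_apply, hda, hv1a, sub_zero])
        (by simp [map_add, map_sub, hdd, hv1v1, hdv1, hv1d])
      simp only [map_add, map_sub] at hep hem
      have hed : pB Q e d = 0 := by
        have : (2 : F) * pB Q e d = 0 := by linear_combination hep + hem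
        simpa [S.S.two_ne] using this
      have hxe : pB Q x e = 0 := by rw [← S.pB_pr he, ← ha, S.S.pB_comm, hea]
      refine trick d y1 (h.smul _) hd hd0 hQd hxd hy1d (w0 + e) ((D l).add_mem hw0m he)
        (by rw [map_add, LinearMap.add_apply, hw0d, hed, add_zero])
        (by rw [map_add, hxw0, hxe, add_zero]) fun e' => hQe ?_
      have hwe : pB Q w0 e = 0 := by
        rw [hw0, map_smul, LinearMap.smul_apply, S.S.pB_comm a e, hea, smul_zero]
      rw [S.S.quad_add, hne, hwe, add_zero, add_eq_left] at e'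
      exact e'
    · obtain ⟨s, hs0, hs⟩ : ∃ s : F, s ≠ 0 ∧ s * s ≠ 1 := exists_sq_ne_one S.S hq
      refine trick (s • d) (s⁻¹ • y1) ((h.smul _).smul _) ((D l).smul_mem _ hd)
        (smul_ne_zero hs0 hd0) (by rw [S.S.quad_smul, hQd, mul_zero])
        (by rw [map_smul, hxd, smul_zero]) ?_ w0 hw0m
        (by rw [map_smul, hw0d, smul_zero]) hxw0 fun e' => hs ?_
      · simp only [map_smul, LinearMap.smul_apply, smul_eq_mul, hy1d]
        field_simp
      · have hy0 : Q y1 ≠ 0 := by
          rw [hy1, S.S.quad_smul]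
          exact mul_ne_zero (mul_ne_zero (neg_ne_zero.2 (inv_ne_zero hβ))
            (neg_ne_zero.2 (inv_ne_zero hβ))) hQy
        rw [hne, S.S.quad_smul s⁻¹ y1] at e'
        have h6 : s * s * Q y1 = 1 * Q y1 :=
          calc s * s * Q y1 = s * s * (s⁻¹ * s⁻¹ * Q y1) := by rw [← e']
            _ = 1 * Q y1 := by field_simp
        exact mul_right_cancel₀ hy0 h6

end OF

end Cfsg.Agent.TransvMax.OFrame
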