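import Cfsg.Agent.Lib.TransvMax.OFrame.Cases

/-!
The stabiliser of an orthogonal decomposition into members of dimension at least three is maximal
in the derived orthogonal group in odd characteristic.
-/

set_option autoImplicit false

namespace Cfsg.Agent.TransvMax.OFrame

attribute [-simp] QuadraticMap.polarBilin_apply_apply

open scoped Matrix MatrixGroups
open Cfsg.Agent Cfsg.Agent.TransvMax

variable {ι : Type} [Fintype ι] [DecidableEq ι] {F : Type*} [Field F] [Finite F]
  {Q : QuadraticForm F (ι → F)} {t k : ℕ} {D : Fin t → Submodule F (ι → F)}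

namespace OF

section Swap

variable (S : OF Q k D)

include S

omit [Finite F] in
theorem ext_pr {x y : ι → F} (h : ∀ c, S.pr c x = S.pr c y) : x = y := by
  rw [← S.sum_pr x, ← S.sum_pr y]
  exact Finset.sum_congr rfl fun c _ => h c

omit [Finite F] in
theorem quad_two (x : ι → F) : 2 * Q x = ∑ c, 2 * Q (S.pr c x) := by
  rw [← S.S.pB_self]
  conv_lhs => arg 2; rw [← S.sum_pr x]
  rw [map_sum]
  exact Finset.sum_congr rfl fun c _ => by
    rw [← S.pB_pr (S.pr_mem c x), S.S.pB_self]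

omit [Finite F] in
theorem glOf_mem_stab {g : (ι → F) ≃ₗ[F] (ι → F)} {σ : Equiv.Perm (Fin t)}
    (h : ∀ i, ∀ x ∈ D i, g x ∈ D (σ i)) : glOf g ∈ Cfsg.Geo.decompositionStabilizer D := by
  refine ⟨σ, fun i => ?_⟩
  have e : Matrix.toLin' ((glOf g : GL ι F) : Matrix ι ι F) = (g : (ι → F) →ₗ[F] (ι → F)) :=
    LinearMap.ext fun x => by rw [Matrix.toLin'_apply]; exact glOf_mulVec g x
  rw [e]
  refine Submodule.eq_of_le_of_finrank_eq ?_ (by rw [g.finrank_map_eq, S.finrank, S.finrank])
  rintro _ ⟨x, hx, rfl⟩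
  exact h i x hx

/-- An element of the stabiliser inducing a transposition of the members. -/
theorem exists_swap (a b : Fin t) :
    ∃ g ∈ FormsLib.oGroup Q, glOf g ∈ Cfsg.Geo.omegaGL ⇑Q ∧
      ∀ i, ∀ x ∈ D i, g x ∈ D (Equiv.swap a b i) := by
  rcases eq_or_ne a b with rfl | hab
  · exact ⟨1, one_mem _, by rw [map_one]; exact one_mem _, fun i x hx => by
      rw [Equiv.swap_self, Equiv.refl_apply]; exact hx⟩
  obtain ⟨φ, hφ⟩ := S.hD.isometric a b
  let P : (ι → F) →ₗ[F] (ι → F) :=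
    (D b).subtype ∘ₗ φ.toLinearMap ∘ₗ (S.pr a).codRestrict (D a) (S.pr_mem a)
  let P' : (ι → F) →ₗ[F] (ι → F) :=
    (D a).subtype ∘ₗ φ.symm.toLinearMap ∘ₗ (S.pr b).codRestrict (D b) (S.pr_mem b)
  have hP : ∀ v, P v = φ ⟨S.pr a v, S.pr_mem a v⟩ := fun v => rfl
  have hP' : ∀ v, P' v = φ.symm ⟨S.pr b v, S.pr_mem b v⟩ := fun v => rfl
  let f : (ι → F) →ₗ[F] (ι → F) := LinearMap.id - S.pr a - S.pr b + P + P'
  have hf : ∀ v, f v = v - S.pr a v - S.pr b v + P v + P' v := fun v => rfl
  have hfa : ∀ v, S.pr a (f v) = P' v := by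
    intro v
    rw [hf, map_add, map_add, map_sub, map_sub, S.pr_of_mem (S.pr_mem a v),
      S.pr_of_mem_ne hab.symm (S.pr_mem b v), S.pr_of_mem_ne hab.symm (x := P v) (φ _).2,
      S.pr_of_mem (x := P' v) (φ.symm _).2]
    abel
  have hfb : ∀ v, S.pr b (f v) = P v := by
    intro v
    rw [hf, map_add, map_add, map_sub, map_sub, S.pr_of_mem (S.pr_mem b v),
      S.pr_of_mem_ne hab (S.pr_mem a v), S.pr_of_mem (x := P v) (φ _).2,
      S.pr_of_mem_ne hab (x := P' v) (φ.symm _).2]
    abel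
  have hfc : ∀ v c, c ≠ a → c ≠ b → S.pr c (f v) = S.pr c v := by
    intro v c hca hcb
    rw [hf, map_add, map_add, map_sub, map_sub, S.pr_of_mem_ne hca.symm (S.pr_mem a v),
      S.pr_of_mem_ne hcb.symm (S.pr_mem b v), S.pr_of_mem_ne hcb.symm (x := P v) (φ _).2,
      S.pr_of_mem_ne hca.symm (x := P' v) (φ.symm _).2]
    abel
  have hinv : ∀ v, f (f v) = v := by
    intro v
    refine S.ext_pr fun c => ?_
    by_cases hca : c = a
    · subst hca
      rw [hfa, hP']
      simp only [hfb, hP, Subtype.coe_eta, LinearEquiv.symm_apply_apply]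
    by_cases hcb : c = b
    · subst hcb
      rw [hfb, hP]
      simp only [hfa, hP', Subtype.coe_eta, LinearEquiv.apply_symm_apply]
    rw [hfc _ c hca hcb, hfc _ c hca hcb]
  set s : (ι → F) ≃ₗ[F] (ι → F) :=
    LinearEquiv.ofLinearMap f f (LinearMap.ext hinv) (LinearMap.ext hinv)
  have hs : s ∈ FormsLib.oGroup Q := by
    intro v
    refine mul_left_cancel₀ S.S.two_ne ?_
    rw [S.quad_two, S.quad_two]
    refine Finset.sum_equiv (Equiv.swap a b) (by simp) fun c _ => ?_
    congr 1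
    show Q (S.pr c (f v)) = _
    by_cases hca : c = a
    · subst hca
      rw [hfa, Equiv.swap_apply_left, hP']
      have := hφ (φ.symm ⟨S.pr b v, S.pr_mem b v⟩)
      rw [LinearEquiv.apply_symm_apply] at this
      exact this.symm
    by_cases hcb : c = b
    · subst hcb
      rw [hfb, Equiv.swap_apply_right, hP, hφ]
    rw [hfc v c hca hcb, Equiv.swap_apply_of_ne_of_ne hca hcb]
  obtain ⟨r, hr, hrfix, hΩ⟩ := S.exists_corr a hs
  refine ⟨s * r, mul_mem hs hr, hΩ, fun i x hx => ?_⟩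
  have hrx : r x ∈ D i := by
    by_cases hi : i = a
    · subst hi; exact S.map_mem hr hrfix hx
    · rw [hrfix i hi x hx]; exact hx
  refine S.mem_of_pr fun c hc => ?_
  show S.pr c (f (r x)) = 0
  have hz : ∀ e, Equiv.swap a b c ≠ e → e = i → S.pr (Equiv.swap a b c) (r x) = 0 :=
    fun e he hei => S.pr_of_mem_ne (hei ▸ he).symm hrx
  have h0 := hz i (fun e => hc (by rw [← e, Equiv.swap_apply_self])) rfl
  by_cases hca : c = a
  · subst hca
    rw [Equiv.swap_apply_left] at h0
    rw [hfa, hP']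
    simp [h0]
  by_cases hcb : c = b
  · subst hcb
    rw [Equiv.swap_apply_right] at h0
    rw [hfb, hP]
    simp [h0]
  rw [Equiv.swap_apply_of_ne_of_ne hca hcb] at h0
  rw [hfc _ c hca hcb, h0]

end Swap

variable {S : OF Q k D} {K : Subgroup (GL ι F)}
  (hH : Cfsg.Geo.decompositionStabilizer D ⊓ Cfsg.Geo.omegaGL ⇑Q ≤ K)
include hH

/-- An element moving the decomposition produces a centre inside a member. -/
theorem done_of_move {g : (ι → F) ≃ₗ[F] (ι → F)} (hg : g ∈ FormsLib.oGroup Q) (hgK : glOf g ∈ K)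
    (hgS : glOf g ∉ Cfsg.Geo.decompositionStabilizer D) : S.Done K := by
  classical
  by_contra hD
  have key : ∀ i, ∀ u ∈ D i, u ≠ 0 → Q u = 0 → ∀ w ∈ D i, Q w ≠ 0 → pB Q w u = 0 →
      ∃ j, g u ∈ D j ∧ g w ∈ D j := by
    intro i u hu hu0 hQu w hw hQw hwu
    have hF := (fam_member (S := S) hH hu hw hQu hwu).conj hg hgK
    by_cases hj : ∃ j, g u ∈ D j
    · obtain ⟨j, hj⟩ := hj
      refine ⟨j, hj, ?_⟩
      by_contra hwj
      exact hD ⟨j, g u, hj, fun e => hu0 (g.map_eq_zero_iff.1 e), g w, hwj, hF⟩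
    · exact absurd (done_of_spread hH hF (by rwa [hg w]) (not_exists.1 hj)) hD
  have huniq : ∀ (z : ι → F), z ≠ 0 → ∀ j j', g z ∈ D j → g z ∈ D j' → j = j' := by
    intro z hz j j' h1 h2
    by_contra hne
    exact hz (g.map_eq_zero_iff.1 (Submodule.disjoint_def.1
      (S.hD.decomp.decomp.indep.pairwiseDisjoint hne) _ h1 h2))
  have hall : ∀ i, ∃ j, ∀ z ∈ D i, g z ∈ D j := by
    intro i
    obtain ⟨u, hu, hu0, hQu⟩ := S.exists_sing i
    obtain ⟨v, hv, hQv, huv⟩ := S.exists_partner hu hu0 hQu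
    obtain ⟨w, hw, hQw, hwu, hwv⟩ := S.exists_core hu hv hQu hQv huv
    have hv0 : v ≠ 0 := fun e => zero_ne_one (by rw [← huv, e, map_zero])
    have hw0 : w ≠ 0 := fun e => hQw (by rw [e, QuadraticMap.map_zero])
    obtain ⟨j, hju, hjw⟩ := key i u hu hu0 hQu w hw hQw hwu
    obtain ⟨j', hjv, hjw'⟩ := key i v hv hv0 hQv w hw hQw hwv
    obtain rfl := huniq w hw0 j j' hjw hjw'
    have hperp : ∀ e ∈ D i, Q e ≠ 0 → pB Q e u = 0 → g e ∈ D j := by
      intro e he hQe heu
      obtain ⟨j'', h1, h2⟩ := key i u hu hu0 hQu e he hQe heu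
      rwa [huniq u hu0 j j'' hju h1]
    refine ⟨j, fun z hz => ?_⟩
    set e := z - pB Q z v • u - pB Q z u • v with he
    have hem : e ∈ D i := (D i).sub_mem ((D i).sub_mem hz ((D i).smul_mem _ hu)) ((D i).smul_mem _ hv)
    have heu : pB Q e u = 0 := by
      rw [he, map_sub, map_sub, map_smul, map_smul]
      simp only [LinearMap.sub_apply, LinearMap.smul_apply, S.S.pB_self, hQu, S.S.pB_comm v u, huv,
        smul_eq_mul]
      ring
    have hge : g e ∈ D j := by
      by_cases hQe : Q e = 0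
      · have h2 : Q (e + w) ≠ 0 ∨ Q (e - w) ≠ 0 := by
          by_contra hc
          push Not at hc
          obtain ⟨ha, hb⟩ := hc
          rw [S.S.quad_add, hQe] at ha
          rw [sub_eq_add_neg, S.S.quad_add, hQe, QuadraticMap.map_neg, map_neg] at hb
          exact mul_ne_zero S.S.two_ne hQw (by linear_combination ha + hb)
        rcases h2 with h2 | h2
        · have := (D j).sub_mem (hperp _ ((D i).add_mem hem hw) h2
            (by rw [map_add, LinearMap.add_apply, heu, hwu, add_zero])) hjw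
          rwa [map_add, add_sub_cancel_right] at this
        · have := (D j).add_mem (hperp _ ((D i).sub_mem hem hw) h2
            (by rw [map_sub, LinearMap.sub_apply, heu, hwu, sub_zero])) hjw
          rwa [map_sub, sub_add_cancel] at this
      · exact hperp e hem hQe heu
    have := (D j).add_mem hge
      ((D j).add_mem ((D j).smul_mem (pB Q z v) hju) ((D j).smul_mem (pB Q z u) hjv))
    rw [he, map_sub, map_sub, map_smul, map_smul] at this
    convert this using 1
    abel
  choose τ hτ using hall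
  have hinj : Function.Injective τ := by
    intro i i' h
    by_contra hne
    obtain ⟨u, hu, hu0, -⟩ := S.exists_sing i
    have hmap : (D i').map (g : (ι → F) →ₗ[F] (ι → F)) = D (τ i') := by
      refine Submodule.eq_of_le_of_finrank_eq ?_ (by rw [g.finrank_map_eq, S.finrank, S.finrank])
      rintro _ ⟨x, hx, rfl⟩
      exact hτ i' x hx
    obtain ⟨y, hy, hye⟩ := hmap.ge (h ▸ hτ i u hu)
    have : y = u := g.injective hye
    subst this
    exact hu0 (Submodule.disjoint_def.1 (S.hD.decomp.decomp.indep.pairwiseDisjoint hne) _ hu hy)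
  exact hgS (S.glOf_mem_stab (σ := Equiv.ofBijective τ (Finite.injective_iff_bijective.1 hinj))
    (fun i x hx => hτ i x hx))

/-- A centre inside a member gives all Siegel transformations. -/
theorem all_siegel (hd : S.Done K) (x w : ι → F) (hx : Q x = 0) (hw : pB Q w x = 0) :
    glOf (S.S.siegel x w hx hw) ∈ K := by
  classical
  let R : Fin t → Fin t → Prop := fun a b =>
    ∀ u ∈ D a, u ≠ 0 → Q u = 0 → ∀ z ∈ D b, S.Fam K u z
  obtain ⟨j, u₀, hu₀, hu₀0, w₀, hw₀, hF⟩ := hd
  obtain ⟨m, hmj, hm⟩ := S.exists_pr_ne hw₀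
  have h0 : ∀ z ∈ D m, S.Fam K u₀ z := fun z hz =>
    fam_fill hH hF (S.pr_of_mem_ne hmj.symm hu₀) hm hz
  have hR1 : R m j := fun z hz hz0 hQz y hy =>
    fam_fill hH ((h0 z hz).swap hQz) (S.pr_of_mem_ne hmj hz) (by rwa [S.pr_of_mem hu₀]) hy
  have hR2 : R j m := fun u hu hu0 hQu y hy => by
    obtain ⟨z, hz, hz0, hQz⟩ := S.exists_sing m
    exact fam_fill hH ((hR1 z hz hz0 hQz u hu).swap hQu) (S.pr_of_mem_ne hmj.symm hu)
      (by rwa [S.pr_of_mem hz]) hy
  have htr : ∀ a b c e, R a b → R (Equiv.swap c e a) (Equiv.swap c e b) := by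
    intro a b c e hR u hu hu0 hQu z hz
    obtain ⟨g, hg, hgΩ, hgD⟩ := S.exists_swap c e
    have hgK : glOf g ∈ K := hH ⟨S.glOf_mem_stab hgD, hgΩ⟩
    have hback : ∀ i, ∀ v ∈ D (Equiv.swap c e i), g.symm v ∈ D i := by
      intro i v hv
      have hmap : (D i).map (g : (ι → F) →ₗ[F] (ι → F)) = D (Equiv.swap c e i) := by
        refine Submodule.eq_of_le_of_finrank_eq ?_ (by rw [g.finrank_map_eq, S.finrank, S.finrank])
        rintro _ ⟨x, hx, rfl⟩
        exact hgD i x hx
      obtain ⟨y, hy, rfl⟩ := hmap.ge hv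
      rw [LinearEquiv.coe_coe, LinearEquiv.symm_apply_apply]
      exact hy
    have h1 := (hR (g.symm u) (hback a u hu) (fun h => hu0 (g.symm.map_eq_zero_iff.1 h))
      (by rw [← hg (g.symm u), LinearEquiv.apply_symm_apply, hQu]) _ (hback b z hz)).conj hg hgK
    rwa [LinearEquiv.apply_symm_apply, LinearEquiv.apply_symm_apply] at h1
  have hRall : ∀ a b, a ≠ b → R a b := by
    intro a b hab
    have h1 := htr j m j a hR2
    rw [Equiv.swap_apply_left] at h1
    set m1 := Equiv.swap j a m with hm1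
    have hm1a : m1 ≠ a := fun e => hmj (by
      have := congrArg (Equiv.swap j a) e
      rwa [hm1, Equiv.swap_apply_self, Equiv.swap_apply_right] at this)
    have h2 := htr a m1 m1 b h1
    rwa [Equiv.swap_apply_of_ne_of_ne hm1a.symm hab, Equiv.swap_apply_left] at h2
  let Good : (ι → F) → Prop := fun x => ∀ w, pB Q w x = 0 → S.Fam K x w
  have hmem : ∀ a, ∀ u ∈ D a, Q u = 0 → Good u := by
    intro a u hu hQu w hw
    rcases eq_or_ne u 0 with rfl | hu0
    · intro c
      refine (In.zero (S := S) (K := K) (QuadraticMap.map_zero Q)).congr (QuadraticMap.map_zero Q)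
        (by rw [map_zero]) fun z => ?_
      simp [siegelHom_apply]
    rw [← S.sum_pr w]
    refine Fam.sum hQu _ _ fun b _ => ?_
    by_cases hb : b = a
    · subst hb
      exact fam_member hH hu (S.pr_mem b w) hQu (by rw [S.pB_pr hu, hw])
    · exact hRall a b (Ne.symm hb) u hu hu0 hQu _ (S.pr_mem b w)
  have hsm : ∀ (c : F) (x : ι → F), c ≠ 0 → Good x → Good (c • x) := fun c x hc hG w hw =>
    (hG w (by rw [map_smul, smul_eq_mul, mul_eq_zero] at hw; exact hw.resolve_left hc)).centre_smul c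
  have hstep : ∀ a b, Q a = 0 → Q b = 0 → pB Q a b = 1 → Good a → Good b → ∀ y, Q y = 0 →
      pB Q y a ≠ 0 → Good y := by
    intro a b hQa hQb hab hGa hGb y hQy hya
    set y1 := (pB Q y a)⁻¹ • y with hy1
    have hQy1 : Q y1 = 0 := by rw [hy1, S.S.quad_smul, hQy, mul_zero]
    have hy1a : pB Q y1 a = 1 := by
      rw [hy1, map_smul, LinearMap.smul_apply, smul_eq_mul, inv_mul_cancel₀ hya]
    have hba : pB Q b a = 1 := by rw [S.S.pB_comm, hab]
    have hwa : pB Q (y1 - b) a = 0 := by rw [map_sub, LinearMap.sub_apply, hy1a, hba, sub_self]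
    obtain ⟨hu', hw', hT⟩ := hGa _ hwa 1
    set T := S.S.siegel a ((1 : F) • (y1 - b)) hu' hw' with hTdef
    have ho : T ∈ FormsLib.oGroup Q := siegel_mem_oGroup S.S hu' hw'
    have hTb : T b = y1 := by
      have h2 := S.S.quad_add b (y1 - b)
      rw [add_sub_cancel, hQy1, hQb] at h2
      rw [hTdef, S.S.siegel_apply, siegelHom_apply, one_smul, hba, one_smul, mul_one, sub_sub,
        ← add_smul, show pB Q b (y1 - b) + Q (y1 - b) = 0 by linear_combination -h2, zero_smul,
        sub_zero, add_sub_cancel]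
    have hGy1 : Good y1 := fun w hw => by
      have h1 := (hGb (T.symm w) (by
        rw [← pB_of_mem S.S ho, LinearEquiv.apply_symm_apply, hTb, hw])).conj ho hT
      rwa [hTb, LinearEquiv.apply_symm_apply] at h1
    have h1 := hsm (pB Q y a) y1 hya hGy1
    rwa [hy1, smul_smul, mul_inv_cancel₀ hya, one_smul] at h1
  suffices Good x by
    obtain ⟨_, _, h⟩ := this w hw 1
    simpa only [one_smul] using h
  obtain ⟨u, hu, hu0, hQu⟩ := S.exists_sing j
  obtain ⟨v, hv, hQv, huv⟩ := S.exists_partner hu hu0 hQu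
  have hGu := hmem j u hu hQu
  have hGv := hmem j v hv hQv
  have hvu : pB Q v u = 1 := by rw [S.S.pB_comm, huv]
  rcases eq_or_ne x 0 with rfl | hx0
  · exact hmem j 0 (Submodule.zero_mem _) hx
  by_cases h1 : pB Q x u = 0
  swap
  · exact hstep u v hQu hQv huv hGu hGv x hx h1
  by_cases h2 : pB Q x v = 0
  swap
  · exact hstep v u hQv hQu hvu hGv hGu x hx h2
  have hli : LinearIndependent F ![x, u] := (LinearIndependent.pair_iff' hx0).2 fun c e => by
    have := congrArg (fun z => pB Q z v) e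
    simp [h2, huv] at this
  obtain ⟨z, hQz, hz⟩ := S.S.exists_sing_values hli (by omega) ![1, 1]
  have hzx : pB Q z x = 1 := hz 0
  have hzu : pB Q z u = 1 := hz 1
  have hGz := hstep u v hQu hQv huv hGu hGv z hQz (by rw [hzu]; exact one_ne_zero)
  exact hstep z u hQz hQu hzu hGz hGu x hx (by rw [S.S.pB_comm, hzx]; exact one_ne_zero)

omit hH in
/-- The stabiliser of the decomposition is maximal. -/
theorem stab_maximal (S : OF Q k D) : Cfsg.Geo.IsMaximalIn (Cfsg.Geo.omegaGL ⇑Q)
    (Cfsg.Geo.decompositionStabilizer D ⊓ Cfsg.Geo.omegaGL ⇑Q) := by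
  refine maximal_in_omegaGL S.S _ inf_le_right ?_ fun K hH hK ⟨g, hgK, hg⟩ => ?_
  · have h2 := S.hD.decomp.decomp.two_le
    let a : Fin t := ⟨0, by omega⟩
    let b : Fin t := ⟨1, by omega⟩
    have hab : a ≠ b := by simp [a, b, Fin.ext_iff]
    obtain ⟨u, hu, hu0, hQu⟩ := S.exists_sing a
    obtain ⟨v, hv, -, huv⟩ := S.exists_partner hu hu0 hQu
    obtain ⟨z, hz, hQz⟩ := S.exists_aniso b
    have hzu : pB Q z u = 0 := S.orth hab.symm hz hu
    refine ⟨_, glOf_siegel_mem_omega S.S hQu hzu, fun h => ?_⟩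
    obtain ⟨σ, hσ⟩ := h.1
    have h1 : S.S.siegel u z hQu hzu v ∈ D (σ a) := by
      rw [← hσ a]
      exact ⟨v, hv, by rw [Matrix.toLin'_apply, glOf_mulVec]⟩
    rw [S.S.siegel_apply, siegelHom_apply, S.S.pB_comm v u, huv, S.orth hab hv hz] at h1
    by_cases hσa : σ a = b
    · have h2' := S.pr_of_mem_ne (Ne.symm hab) (hσa ▸ h1)
      simp [S.pr_of_mem hu, S.pr_of_mem hv, S.pr_of_mem_ne hab.symm hz] at h2'
      have := congrArg (fun y => pB Q u y) h2'
      simp [huv, S.S.pB_self, hQu] at this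
    · have h2' := S.pr_of_mem_ne hσa h1
      simp [S.pr_of_mem_ne hab hu, S.pr_of_mem_ne hab hv, S.pr_of_mem hz] at h2'
      exact hQz (by rw [h2', QuadraticMap.map_zero])
  · have hgo := omegaGL_iso S.S (hK hgK)
    exact all_siegel hH (done_of_move (S := S) hH hgo (by rw [glOf_linOf]; exact hgK)
      (fun h => hg ⟨by rwa [glOf_linOf] at h, hK hgK⟩))

end OF

end Cfsg.Agent.TransvMax.OFrame
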