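import Cfsg.Agent.Lib.TransvMax.OrthSubspace

/-!
Members of an orthogonal decomposition in odd characteristic, all of dimension at least three:
projections, orthogonal anisotropic families, hyperbolic pairs, correcting elements.
-/

set_option autoImplicit false

namespace Cfsg.Agent.TransvMax.OFrame

open scoped Matrix MatrixGroups
open Cfsg.Agent Cfsg.Agent.TransvMax

variable {ι : Type} [Fintype ι] [DecidableEq ι] {F : Type*} [Field F] [Finite F]
  {Q : QuadraticForm F (ι → F)} {t k : ℕ} {D : Fin t → Submodule F (ι → F)}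

/-- An orthogonal decomposition into isometric members of dimension at least three. -/
structure OF (Q : QuadraticForm F (ι → F)) (k : ℕ) (D : Fin t → Submodule F (ι → F)) : Prop where
  S : OSetting Q
  hD : Cfsg.Geo.IsOrthogonalMDecomposition ⇑Q k D
  three : 3 ≤ k
  big : 4 ≤ k ∨ Nat.card F ≠ 3

/-- Fields of odd order other than three have a square other than zero and one. -/
theorem exists_sq_ne_one (S : OSetting Q) (hq : Nat.card F ≠ 3) : ∃ s : F, s ≠ 0 ∧ s * s ≠ 1 := by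
  classical
  haveI := Fintype.ofFinite F
  by_contra hc
  push Not at hc
  have h1 : (Finset.univ : Finset F) ⊆ {0, 1, -1} := fun s _ => by
    by_cases hs : s = 0
    · simp [hs]
    · rcases mul_self_eq_one_iff.1 (hc s hs) with h | h <;> simp [h]
  have h2 := (Finset.card_le_card h1).trans Finset.card_le_three
  rw [Finset.card_univ] at h2
  have h3 := FiniteField.odd_card_of_char_ne_two S.odd
  have h4 := Fintype.one_lt_card (α := F)
  rw [Nat.card_eq_fintype_card] at hq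
  omega

namespace OF

variable (S : OF Q k D)

include S

omit [Finite F] in
theorem orth {a b : Fin t} (hab : a ≠ b) {x y : ι → F} (hx : x ∈ D a) (hy : y ∈ D b) :
    pB Q x y = 0 := by
  have := S.hD.decomp.orthogonal a b hab x hx y hy
  rwa [QuadraticMap.polarBilin_apply_apply]

omit [Finite F] in
theorem nd {a : Fin t} {w : ι → F} (hw : w ∈ D a) (hw0 : w ≠ 0) : ∃ x ∈ D a, pB Q x w ≠ 0 := by
  obtain ⟨x, hx, hxw⟩ := (S.hD.decomp.nondegenerate a w hw hw0).1
  exact ⟨x, hx, by rwa [QuadraticMap.polarBilin_apply_apply]⟩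

omit [Finite F] in
theorem finrank (a : Fin t) : Module.finrank F (D a) = k := S.hD.decomp.decomp.finrank_eq a

omit [Finite F] in
theorem mem_of_perp {a : Fin t} {v : ι → F} (h : ∀ b, b ≠ a → ∀ y ∈ D b, pB Q v y = 0) :
    v ∈ D a := by
  have hv : v ∈ ⨆ i ∈ (Finset.univ : Finset (Fin t)), D i := by
    simp [S.hD.decomp.decomp.iSup_eq_top]
  rw [Submodule.mem_iSup_finset_iff_exists_sum] at hv
  obtain ⟨μ, hμ⟩ := hv
  have hz : ∀ b, b ≠ a → (μ b : ι → F) = 0 := by
    intro b hb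
    by_contra hne
    obtain ⟨y, hy, hyb⟩ := S.nd (μ b).2 hne
    refine hyb ?_
    have h1 := h b hb y hy
    rw [S.S.pB_comm, ← hμ, map_sum, Finset.sum_eq_single b (fun c _ hc =>
      S.orth (Ne.symm hc) hy (μ c).2) (by simp)] at h1
    exact h1
  rw [← hμ, Finset.sum_eq_single a (fun b _ hb => hz b hb) (by simp)]
  exact (μ a).2

/-- The orthogonal projection onto a member. -/
noncomputable def pr (a : Fin t) : (ι → F) →ₗ[F] (ι → F) :=
  (D a).projection _ (exists_ODec S.S (D a) fun _ hw hw0 => S.nd hw hw0).choose_spec.compl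

omit [Finite F] in
theorem pr_mem (a : Fin t) (v : ι → F) : S.pr a v ∈ D a :=
  Submodule.projection_apply_mem _ _

omit [Finite F] in
theorem pB_pr {a : Fin t} {y : ι → F} (hy : y ∈ D a) (v : ι → F) :
    pB Q (S.pr a v) y = pB Q v y := by
  have hd := (exists_ODec S.S (D a) fun _ hw hw0 => S.nd hw hw0).choose_spec
  obtain ⟨c, hc, e, he, rfl⟩ := hd.decomp v
  rw [map_add, pr, Submodule.projection_apply_of_mem_left _ hc,
    Submodule.projection_apply_of_mem_right _ he, add_zero, map_add, LinearMap.add_apply,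
    hd.orth' hy he, add_zero]

omit [Finite F] in
theorem pr_eq {a : Fin t} {x v : ι → F} (hx : x ∈ D a)
    (h : ∀ y ∈ D a, pB Q v y = pB Q x y) : S.pr a v = x := by
  by_contra hne
  have hm : S.pr a v - x ∈ D a := (D a).sub_mem (S.pr_mem a v) hx
  obtain ⟨y, hy, hyn⟩ := S.nd hm (sub_ne_zero.2 hne)
  refine hyn ?_
  rw [S.S.pB_comm, map_sub, LinearMap.sub_apply, S.pB_pr hy, h y hy, sub_self]

omit [Finite F] in
theorem pr_of_mem {a : Fin t} {x : ι → F} (hx : x ∈ D a) : S.pr a x = x := S.pr_eq hx fun _ _ => rfl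

omit [Finite F] in
theorem pr_of_mem_ne {a b : Fin t} (hba : b ≠ a) {x : ι → F} (hx : x ∈ D b) : S.pr a x = 0 :=
  S.pr_eq (Submodule.zero_mem _) fun y hy => by
    rw [S.orth hba hx hy, map_zero, LinearMap.zero_apply]

omit [Finite F] in
theorem mem_of_pr {a : Fin t} {v : ι → F} (h : ∀ b, b ≠ a → S.pr b v = 0) : v ∈ D a :=
  S.mem_of_perp fun b hb y hy => by rw [← S.pB_pr hy, h b hb, map_zero, LinearMap.zero_apply]

omit [Finite F] in
theorem exists_pr_ne {a : Fin t} {v : ι → F} (h : v ∉ D a) : ∃ b, b ≠ a ∧ S.pr b v ≠ 0 := by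
  by_contra hc
  push Not at hc
  exact h (S.mem_of_pr hc)

omit [Finite F] in
theorem sum_pr (v : ι → F) : ∑ a, S.pr a v = v := by
  have : Nonempty (Fin t) := ⟨⟨0, by have := S.hD.decomp.decomp.two_le; omega⟩⟩
  obtain ⟨a⟩ := this
  have h : v - ∑ b ∈ Finset.univ.erase a, S.pr b v ∈ D a := S.mem_of_pr fun b hb => by
    rw [map_sub, map_sum, Finset.sum_eq_single b
      (fun c _ hc => S.pr_of_mem_ne hc (S.pr_mem c v))
      (fun h => absurd (Finset.mem_erase.2 ⟨hb, Finset.mem_univ b⟩) h),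
      S.pr_of_mem (S.pr_mem b v), sub_self]
  have h2 := S.pr_of_mem h
  rw [map_sub, map_sum, Finset.sum_eq_zero (fun c hc =>
    S.pr_of_mem_ne (Finset.ne_of_mem_erase hc) (S.pr_mem c v)), sub_zero] at h2
  rw [← Finset.add_sum_erase _ _ (Finset.mem_univ a), h2, sub_add_cancel]

omit [Finite F] in
/-- An orthogonal family of anisotropic vectors extends. -/
theorem exists_next {a : Fin t} {r : ℕ} {p : Fin r → ι → F} (hp : ∀ i, p i ∈ D a)
    (hn : ∀ i, Q (p i) ≠ 0) (ho : ∀ i j, i ≠ j → pB Q (p i) (p j) = 0) (hr : r < k) :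
    ∃ x ∈ D a, Q x ≠ 0 ∧ ∀ i, pB Q x (p i) = 0 := by
  by_contra hc
  push Not at hc
  let P : (ι → F) → (ι → F) := fun v => v - ∑ i, (pB Q v (p i) / (2 * Q (p i))) • p i
  have hPm : ∀ v ∈ D a, P v ∈ D a := fun v hv =>
    (D a).sub_mem hv (Submodule.sum_mem _ fun i _ => (D a).smul_mem _ (hp i))
  have hPp : ∀ v i, pB Q (P v) (p i) = 0 := by
    intro v i
    simp only [P, map_sub, map_sum, map_smul, LinearMap.sub_apply, LinearMap.sum_apply,
      LinearMap.smul_apply, smul_eq_mul]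
    rw [Finset.sum_eq_single i (fun j _ hj => by rw [ho j i hj, mul_zero]) (by simp), S.S.pB_self,
      div_mul_cancel₀ _ (mul_ne_zero S.S.two_ne (hn i)), sub_self]
  have hQ0 : ∀ v ∈ D a, Q (P v) = 0 := fun v hv => by
    by_contra hne
    obtain ⟨i, hi⟩ := hc _ (hPm v hv) hne
    exact hi (hPp v i)
  have hz : ∀ v ∈ D a, P v = 0 := by
    intro v hv
    by_contra hne
    obtain ⟨y, hy, hyn⟩ := S.nd (hPm v hv) hne
    refine hyn ?_
    have e : y = P y + ∑ i, (pB Q y (p i) / (2 * Q (p i))) • p i := by simp [P]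
    have hadd : P y + P v = P (y + v) := by
      simp only [P, map_add, LinearMap.add_apply, add_div, add_smul, Finset.sum_add_distrib]
      abel
    have h3 := hQ0 _ ((D a).add_mem hy hv)
    rw [← hadd, S.S.quad_add, hQ0 y hy, hQ0 v hv, zero_add, zero_add] at h3
    rw [e, map_add, LinearMap.add_apply, h3, zero_add, map_sum, LinearMap.sum_apply]
    refine Finset.sum_eq_zero fun i _ => ?_
    rw [map_smul, LinearMap.smul_apply, S.S.pB_comm (p i) (P v), hPp, smul_zero]
  have hle : D a ≤ Submodule.span F (Set.range p) := by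
    intro v hv
    have h1 := hz v hv
    simp only [P, sub_eq_zero] at h1
    rw [h1]
    exact Submodule.sum_mem _ fun i _ => Submodule.smul_mem _ _ (Submodule.subset_span ⟨i, rfl⟩)
  have h1 := (Submodule.finrank_mono hle).trans (finrank_range_le_card p)
  rw [S.finrank, Fintype.card_fin] at h1
  omega

omit [Finite F] in
/-- An anisotropic vector in a member. -/
theorem exists_aniso (a : Fin t) : ∃ x ∈ D a, Q x ≠ 0 := by
  obtain ⟨x, hx, hQx, -⟩ := S.exists_next (a := a) (p := ![]) (fun i => i.elim0) (fun i => i.elim0)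
    (fun i => i.elim0) (by have := S.three; omega)
  exact ⟨x, hx, hQx⟩

omit [Finite F] in
theorem exists_orth_one {a : Fin t} {x : ι → F} (hx : x ∈ D a) (hQx : Q x ≠ 0) :
    ∃ p ∈ D a, Q p ≠ 0 ∧ pB Q p x = 0 := by
  obtain ⟨p, hp, hQp, h⟩ := S.exists_next (a := a) (p := ![x]) (fun i => by fin_cases i; exact hx)
    (fun i => by fin_cases i; exact hQx) (fun i j h => absurd (Subsingleton.elim i j) h)
    (by have := S.three; omega)
  exact ⟨p, hp, hQp, h 0⟩

omit [Finite F] in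
theorem exists_orth_two {a : Fin t} {x p : ι → F} (hx : x ∈ D a) (hQx : Q x ≠ 0) (hp : p ∈ D a)
    (hQp : Q p ≠ 0) (hpx : pB Q p x = 0) :
    ∃ r ∈ D a, Q r ≠ 0 ∧ pB Q r x = 0 ∧ pB Q r p = 0 := by
  obtain ⟨r, hr, hQr, h⟩ := S.exists_next (a := a) (p := ![x, p])
    (fun i => by fin_cases i <;> assumption) (fun i => by fin_cases i <;> assumption)
    (fun i j hij => by
      fin_cases i <;> fin_cases j <;>
        first | exact absurd rfl hij | exact hpx | exact (S.S.pB_comm _ _).trans hpx)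
    (by have := S.three; omega)
  exact ⟨r, hr, hQr, h 0, h 1⟩

omit [Finite F] in
theorem exists_orth_three (hk : 4 ≤ k) {a : Fin t} {x p r : ι → F} (hx : x ∈ D a) (hQx : Q x ≠ 0)
    (hp : p ∈ D a) (hQp : Q p ≠ 0) (hr : r ∈ D a) (hQr : Q r ≠ 0) (hpx : pB Q p x = 0)
    (hrx : pB Q r x = 0) (hrp : pB Q r p = 0) :
    ∃ e ∈ D a, Q e ≠ 0 ∧ pB Q e x = 0 ∧ pB Q e p = 0 ∧ pB Q e r = 0 := by
  obtain ⟨e, he, hQe, h⟩ := S.exists_next (a := a) (p := ![x, p, r])
    (fun i => by fin_cases i <;> assumption) (fun i => by fin_cases i <;> assumption)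
    (fun i j hij => by
      have e1 := (S.S.pB_comm x p).trans hpx
      have e2 := (S.S.pB_comm x r).trans hrx
      have e3 := (S.S.pB_comm p r).trans hrp
      fin_cases i <;> fin_cases j <;> first | exact absurd rfl hij | assumption)
    (by omega)
  exact ⟨e, he, hQe, h 0, h 1, h 2⟩

/-- Every value is taken in every member. -/
theorem exists_norm (a : Fin t) (c : F) : ∃ x ∈ D a, Q x = c := by
  obtain ⟨p, hp, hQp⟩ := S.exists_aniso a
  obtain ⟨r, hr, hQr, hrp⟩ := S.exists_orth_one hp hQp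
  obtain ⟨s, u, hsu⟩ := S.S.exists_binary hQp hQr c
  refine ⟨s • p + u • r, (D a).add_mem ((D a).smul_mem _ hp) ((D a).smul_mem _ hr), ?_⟩
  simp only [S.S.quad_add, S.S.quad_smul, map_smul, LinearMap.smul_apply, smul_eq_mul,
    S.S.pB_comm p r, hrp, mul_zero, add_zero]
  linear_combination hsu

/-- A non-zero singular vector in a member. -/
theorem exists_sing (a : Fin t) : ∃ u ∈ D a, u ≠ 0 ∧ Q u = 0 := by
  obtain ⟨p, hp, hQp⟩ := S.exists_aniso a
  obtain ⟨r, hr, hQr, hrp⟩ := S.exists_orth_one hp hQp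
  obtain ⟨e, he, hQe, hep, her⟩ := S.exists_orth_two hp hQp hr hQr hrp
  obtain ⟨s, u, hsu⟩ := S.S.exists_binary hQp hQr (-Q e)
  refine ⟨s • p + u • r + e, (D a).add_mem
    ((D a).add_mem ((D a).smul_mem _ hp) ((D a).smul_mem _ hr)) he, fun h0 => ?_, ?_⟩
  · have h1 := congrArg (fun z => pB Q z e) h0
    simp [S.S.pB_comm p e, S.S.pB_comm r e, hep, her, S.S.pB_self, S.S.two_ne, hQe] at h1
  · simp only [S.S.quad_add, S.S.quad_smul, map_add, LinearMap.add_apply, map_smul,
      LinearMap.smul_apply, smul_eq_mul, S.S.pB_comm p r, S.S.pB_comm p e, S.S.pB_comm r e, hrp, hep,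
      her, mul_zero, add_zero]
    linear_combination hsu

omit [Finite F] in
/-- A hyperbolic partner in the same member. -/
theorem exists_partner {a : Fin t} {u : ι → F} (hu : u ∈ D a) (hu0 : u ≠ 0) (hQu : Q u = 0) :
    ∃ v ∈ D a, Q v = 0 ∧ pB Q u v = 1 := by
  obtain ⟨x, hx, hxu⟩ := S.nd hu hu0
  obtain ⟨y, hy, hyu⟩ : ∃ y ∈ D a, pB Q y u = 1 :=
    ⟨(pB Q x u)⁻¹ • x, (D a).smul_mem _ hx, by
      rw [map_smul, LinearMap.smul_apply, smul_eq_mul, inv_mul_cancel₀ hxu]⟩
  have huu : pB Q u u = 0 := by rw [S.S.pB_self, hQu, mul_zero]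
  refine ⟨y + (-Q y) • u, (D a).add_mem hy ((D a).smul_mem _ hu), ?_, ?_⟩
  · rw [S.S.quad_add, S.S.quad_smul, hQu, map_smul, smul_eq_mul, hyu]
    ring
  · rw [map_add, map_smul, huu, smul_zero, add_zero, S.S.pB_comm, hyu]

omit [Finite F] in
/-- An anisotropic vector orthogonal to a hyperbolic pair. -/
theorem exists_core {a : Fin t} {u v : ι → F} (hu : u ∈ D a) (hv : v ∈ D a) (hQu : Q u = 0)
    (hQv : Q v = 0) (huv : pB Q u v = 1) :
    ∃ w ∈ D a, Q w ≠ 0 ∧ pB Q w u = 0 ∧ pB Q w v = 0 := by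
  have huu : pB Q u u = 0 := by rw [S.S.pB_self, hQu, mul_zero]
  have hvv : pB Q v v = 0 := by rw [S.S.pB_self, hQv, mul_zero]
  have hvu : pB Q v u = 1 := by rw [S.S.pB_comm, huv]
  have h1 : Q (u + v) ≠ 0 := by rw [S.S.quad_add, hQu, hQv, huv]; simp
  have h2 : Q (u - v) ≠ 0 := by
    rw [sub_eq_add_neg, S.S.quad_add, hQu, QuadraticMap.map_neg, hQv, map_neg, huv]; simp
  obtain ⟨w, hw, hQw, hp, hm⟩ := S.exists_orth_two ((D a).add_mem hu hv) h1
    ((D a).sub_mem hu hv) h2 (by simp [map_add, map_sub, huu, hvv, hvu, huv])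
  simp only [map_add, map_sub] at hp hm
  refine ⟨w, hw, hQw, ?_, ?_⟩
  · have : (2 : F) * pB Q w u = 0 := by linear_combination hp + hm
    simpa [S.S.two_ne] using this
  · have : (2 : F) * pB Q w v = 0 := by linear_combination hp - hm
    simpa [S.S.two_ne] using this

omit [Finite F] in
/-- An orthogonal anisotropic triple spans a member of dimension three. -/
theorem eq_zero_of_three (hk : k = 3) {a : Fin t} {x p r z : ι → F} (hx : x ∈ D a) (hQx : Q x ≠ 0)
    (hp : p ∈ D a) (hQp : Q p ≠ 0) (hr : r ∈ D a) (hQr : Q r ≠ 0) (hpx : pB Q p x = 0)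
    (hrx : pB Q r x = 0) (hrp : pB Q r p = 0) (hz : z ∈ D a) (h1 : pB Q z x = 0)
    (h2 : pB Q z p = 0) (h3 : pB Q z r = 0) : z = 0 := by
  have hxp := (S.S.pB_comm x p).trans hpx
  have hxr := (S.S.pB_comm x r).trans hrx
  have hpr := (S.S.pB_comm p r).trans hrp
  have hli : LinearIndependent F ![(⟨x, hx⟩ : D a), ⟨p, hp⟩, ⟨r, hr⟩] := by
    refine Fintype.linearIndependent_iff.2 fun g hg i => ?_
    have hg' : g 0 • x + g 1 • p + g 2 • r = 0 := by
      have := congrArg Subtype.val hg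
      simpa [Fin.sum_univ_three] using this
    have e1 := congrArg (fun w => pB Q w x) hg'
    have e2 := congrArg (fun w => pB Q w p) hg'
    have e3 := congrArg (fun w => pB Q w r) hg'
    simp [S.S.pB_self, hpx, hrx, hrp, hxp, hxr, hpr, S.S.two_ne, hQx, hQp, hQr] at e1 e2 e3
    fin_cases i <;> assumption
  have hsp := hli.span_eq_top_of_card_eq_finrank (by rw [Fintype.card_fin, S.finrank, hk])
  by_contra hz0
  obtain ⟨y, hy, hyz⟩ := S.nd hz hz0
  refine hyz ?_
  have hy' : (⟨y, hy⟩ : D a) ∈ Submodule.span F (Set.range ![(⟨x, hx⟩ : D a), ⟨p, hp⟩, ⟨r, hr⟩]) :=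
    hsp.ge Submodule.mem_top
  obtain ⟨c, hc⟩ := (Submodule.mem_span_range_iff_exists_fun F).1 hy'
  have hy2 : c 0 • x + c 1 • p + c 2 • r = y := by
    have := congrArg Subtype.val hc
    simpa [Fin.sum_univ_three] using this
  rw [← hy2]
  simp [S.S.pB_comm x z, S.S.pB_comm p z, S.S.pB_comm r z, h1, h2, h3]

omit [Finite F] in
/-- An isometry fixing the other members stabilises a member. -/
theorem map_mem {h : (ι → F) ≃ₗ[F] (ι → F)} (ho : h ∈ FormsLib.oGroup Q) {a : Fin t}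
    (hfix : ∀ b, b ≠ a → ∀ y ∈ D b, h y = y) {x : ι → F} (hx : x ∈ D a) : h x ∈ D a :=
  S.mem_of_perp fun b hb y hy => by
    rw [← hfix b hb y hy, pB_of_mem S.S ho, S.orth hb.symm hx hy]

omit [Finite F] in
theorem pr_apply_fix {h : (ι → F) ≃ₗ[F] (ι → F)} (ho : h ∈ FormsLib.oGroup Q) {a : Fin t}
    (hfix : ∀ b, b ≠ a → ∀ y ∈ D b, h y = y) (v : ι → F) :
    h v - v = h (S.pr a v) - S.pr a v ∧ h v - v ∈ D a := by
  have hm : v - S.pr a v = ∑ b ∈ Finset.univ.erase a, S.pr b v := by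
    conv_lhs => rw [← S.sum_pr v, ← Finset.add_sum_erase _ _ (Finset.mem_univ a)]
    rw [map_add, map_sum, S.pr_of_mem (S.pr_mem a v), Finset.sum_eq_zero (fun b hb =>
      S.pr_of_mem_ne (Finset.ne_of_mem_erase hb) (S.pr_mem b v)), add_zero, add_sub_cancel_left]
  have h1 : h (v - S.pr a v) = v - S.pr a v := by
    rw [hm, map_sum]
    exact Finset.sum_congr rfl fun b hb => hfix b (Finset.ne_of_mem_erase hb) _ (S.pr_mem b v)
  have h2 : h v - v = h (S.pr a v) - S.pr a v := by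
    rw [map_sub] at h1
    linear_combination (norm := module) h1
  exact ⟨h2, h2 ▸ (D a).sub_mem (S.map_mem ho hfix (S.pr_mem a v)) (S.pr_mem a v)⟩

/-- Modulo the derived group every isometry is supported in any given member. -/
theorem exists_corr (a : Fin t) {g : (ι → F) ≃ₗ[F] (ι → F)} (hg : g ∈ FormsLib.oGroup Q) :
    ∃ r ∈ FormsLib.oGroup Q, (∀ b, b ≠ a → ∀ y ∈ D b, r y = y) ∧
      glOf (g * r) ∈ Cfsg.Geo.omegaGL ⇑Q := by
  set O := FormsLib.oGroup Q
  set W := (Cfsg.Geo.omegaGL ⇑Q).comap (glOf (ι := ι) (F := F))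
  have hW : ∀ x ∈ O, ∀ w ∈ W, x * w * x⁻¹ ∈ W := by
    intro x hx w hw
    have hc : ⁅O, O⁆ = W := by
      ext z
      simp only [W, Subgroup.mem_comap, omegaGL_eq S.S]
      exact ⟨fun h => ⟨z, h, rfl⟩, fun ⟨y, hy, e⟩ => (LinearEquiv.ext fun x => by rw [← glOf_mulVec y x, e, glOf_mulVec] : y = z) ▸ hy⟩
    rw [← hc] at hw ⊢
    have hn : ∀ w ∈ ⁅O, O⁆, x * w * x⁻¹ ∈ ⁅O, O⁆ := by
      intro w hw
      rw [Subgroup.commutator_def] at hw
      induction hw using Subgroup.closure_induction with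
      | mem z hz =>
        obtain ⟨y, hy, z, hz, rfl⟩ := hz
        rw [conjugate_commutatorElement]
        exact Subgroup.commutator_mem_commutator (mul_mem (mul_mem hx hy) (inv_mem hx))
          (mul_mem (mul_mem hx hz) (inv_mem hx))
      | one => simp
      | mul p q _ _ hp hq => simpa [mul_assoc] using mul_mem hp hq
      | inv p _ hp => simpa [mul_assoc] using inv_mem hp
    exact hn w hw
  let R : Subgroup ((ι → F) ≃ₗ[F] (ι → F)) :=
    { carrier := {r | r ∈ O ∧ ∀ b, b ≠ a → ∀ y ∈ D b, r y = y}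
      one_mem' := ⟨one_mem _, fun _ _ _ _ => rfl⟩
      mul_mem' := fun {p q} hp hq => ⟨mul_mem hp.1 hq.1, fun b hb y hy => by
        rw [LinearEquiv.mul_apply, hq.2 b hb y hy, hp.2 b hb y hy]⟩
      inv_mem' := fun {p} hp => ⟨inv_mem hp.1, fun b hb y hy =>
        p.symm_apply_eq.2 (hp.2 b hb y hy).symm⟩ }
  let M : Subgroup ((ι → F) ≃ₗ[F] (ι → F)) :=
    { carrier := {g | g ∈ O ∧ ∃ r ∈ R, g * r ∈ W}
      one_mem' := ⟨one_mem _, 1, one_mem _, by simp⟩
      mul_mem' := by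
        rintro p q ⟨hp, r, hr, hpr⟩ ⟨hq, s, hs, hqs⟩
        refine ⟨mul_mem hp hq, s * r, mul_mem hs hr, ?_⟩
        have h1 := hW p hp _ hqs
        have e : p * q * (s * r) = p * (q * s) * p⁻¹ * (p * r) := by group
        rw [e]
        exact mul_mem h1 hpr
      inv_mem' := by
        rintro p ⟨hp, r, hr, hpr⟩
        refine ⟨inv_mem hp, r⁻¹, inv_mem hr, ?_⟩
        have h1 := hW p⁻¹ (inv_mem hp) _ (inv_mem hpr)
        have e : p⁻¹ * r⁻¹ = p⁻¹ * (p * r)⁻¹ * p⁻¹⁻¹ := by group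
        rw [e]
        exact h1 }
  have hle : O ≤ M := by
    refine (oGroup_le_closure_refl S.S).trans ((Subgroup.closure_le _).2 ?_)
    rintro _ ⟨v, hv, rfl⟩
    obtain ⟨p, hp, hQp⟩ := S.exists_norm a (Q v)
    have hp0 : Q p ≠ 0 := hQp ▸ hv
    refine ⟨FormsLib.refl_mem Q hv, FormsLib.refl Q p hp0, ⟨FormsLib.refl_mem Q hp0, fun b hb y hy =>
      FormsLib.refl_fix Q hp0 (S.orth hb hy hp)⟩, ?_⟩
    exact refl_pair_mem_omega S.S hp0 hv hQp
  obtain ⟨-, r, ⟨hr, hfix⟩, h⟩ := hle hg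
  exact ⟨r, hr, hfix, h⟩

end OF

end Cfsg.Agent.TransvMax.OFrame
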